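import Cfsg.Agent.UR.Br

/-! Rank three actions of unitary groups: all points are centres of transvections in `H`. -/

set_option autoImplicit false
set_option linter.unusedSectionVars false

namespace Cfsg.Agent.UR

open Module MulAction Submodule Cfsg.Agent.Forms Cfsg.Agent.Polar Cfsg.Agent.Polar.PQ Cfsg.Agent.TT Cfsg.Agent.Cl

variable {F : Type*} [Field F] [Fintype F] {q : ℕ} {hF : Fintype.card F = q ^ 2}
variable {V : Type*} [AddCommGroup V] [Module F V] [Finite V] {P : PQ (uFP hF) V} {H : Subgroup P.Iso}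

/-- the scalars `t` with `t • w ∈ Av H e` -/
def Lw (H : Subgroup P.Iso) {e : V} (he : P.Sing e) (w : V) : AddSubgroup F :=
  (P.vecs H he).comap ((smulAddHom F V).flip w)

theorem mem_Lw {e : V} (he : P.Sing e) {w : V} {t : F} : t ∈ Lw H he w ↔ t • w ∈ Av H e := Iff.rfl

/-- two transvections with the same parameter on a line through `e` -/
theorem sub_mem_Av {e w : V} (he : P.Sing e) (hw : P.Sing w) (hwe : P.B w e = 0) {a b γ : F}
    (hγ : γ ∈ (uFP hF).Λ) (ha : P.eich (a • e + w) 0 γ ∈ H) (hb : P.eich (b • e + w) 0 γ ∈ H) :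
    (frobq hF (b - a) * γ) • w ∈ Av H e := by
  obtain ⟨o1, k1⟩ := u_transvec_add he hw hwe a hγ
  obtain ⟨o2, k2⟩ := u_transvec_add he hw hwe b hγ
  have := mul_mem ha (inv_mem hb)
  rw [k1, k2, mul_inv_rev, mul_assoc, mul_inv_cancel_left, o2.eich_inv, o1.eich_mul o2.neg] at this
  have k : -(frobq hF a * γ) • w + -(-(frobq hF b * γ) • w) ∈ Av H e := ⟨_, o1.add o2.neg, this⟩
  convert k using 1
  rw [map_sub]; module

theorem lt_card_Lw {e w : V} (he : P.Sing e) (hw : P.Sing w) (hwe : P.B w e = 0)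
    (h : ∀ a : F, InS H (a • e + w)) : q < Nat.card (Lw H he w) := by
  choose γ h1 h2 h3 using fun a => (h a).2.2
  have hq := two_le_q hF
  by_contra hn
  have := ncard_le_mul_of_fiber (s := Set.univ) (t := ((uFP hF).Λ : Set F) \ {0}) (Set.toFinite _)
    (Set.toFinite _) γ (fun a _ => ⟨h1 a, h2 a⟩) (n := q) fun c hc => by
      rcases Set.eq_empty_or_nonempty {a | a ∈ Set.univ ∧ γ a = c} with e | ⟨b, -, rfl⟩
      · simp only [e, Set.ncard_empty]; omega
      refine le_trans ?_ (not_lt.1 hn)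
      refine Set.ncard_le_ncard_of_injOn (t := (Lw H he w : Set F)) (fun a => frobq hF (b - a) * γ b)
        (fun a ha => sub_mem_Av he hw hwe (h1 b) (ha.2 ▸ h3 a) (h3 b)) fun a _ a' _ e => ?_
      exact (frobq hF).injective (by simpa [h2 b] using e)
  rw [Set.ncard_univ, u_card hF, Set.ncard_sdiff_singleton_of_mem (zero_mem _),
    show ((uFP hF).Λ : Set F).ncard = q from card_lam hF] at this
  have h4 : q * (q - 1) < q * q := Nat.mul_lt_mul_of_pos_left (by omega) (by omega)
  nlinarith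

theorem card_Lw_mul {e w w' : V} (he : P.Sing e) (hT : ¬ P.TT H e) (h : P.B w w' = 1) :
    Nat.card (Lw H he w') * Nat.card (Lw H he w) ≤ q ^ 2 := by
  obtain ⟨c, hc, hc'⟩ := SetLike.not_le_iff_exists.1 (mt (TT_iff he).2 hT)
  obtain ⟨ψ, h1, h2⟩ := exists_addChar_ker hc'
  have hb : IsBich fun s t : F => ψ (t * frobq hF s - s * frobq hF t) :=
    ⟨fun x y z => by rw [← ψ.map_add_eq_mul, map_add]; congr 1; ring,
      fun x y z => by rw [← ψ.map_add_eq_mul, map_add]; congr 1; ring, by simp, by simp⟩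
  have := hb.card_mul_card_ann (A := ⊤) (Y := Lw H he w') le_top fun y _ hy => by
    by_contra y0
    obtain ⟨b, rfl⟩ := u_hmin c hc
    have := hy (frobq hF (b / y)) trivial
    rw [frobq_frobq, ← map_mul, mul_div_cancel₀ _ y0, div_mul_cancel₀ _ y0] at this
    exact h1 (by simpa using this)
  rw [AddSubgroup.card_top, u_card hF] at this
  refine le_trans (Nat.mul_le_mul_left _ (AddSubgroup.card_le_of_le fun s hs =>
    (hb.mem_ann (A := ⊤)).2 ⟨trivial, fun t ht => ?_⟩)) this.le
  have := h2 _ (comm_mem_Dv he hs ht)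
  simpa [h, u_swap w w', mul_comm] using this

/-- **Case A-All.** -/
theorem caseAll (hP : P.ND) (h4 : 4 ≤ finrank F V) (h : ∀ v, P.Sing v → v ≠ 0 → InS H v) : P.EG ≤ H := by
  by_contra hH
  obtain ⟨e, he, h0, hT⟩ := exists_not_TT (u_TG_eq_EG hP (by omega)) hH
  obtain ⟨f, hf⟩ := hP.exists_hyp he h0
  obtain ⟨w, w', k⟩ := exists_hyp2 hP (r := 2) (fun W hW => by
    obtain ⟨x, h0, hx⟩ := u_exists_sing (P.res W) hW
    exact ⟨x, x.2, by simpa using h0, hx⟩) h4 hf
  have h1 := lt_card_Lw he k.h2.left k.we fun a => h _ ((he.smul a).add k.h2.left (by simp [B_swap_zero k.we]))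
    fun e0 => by simpa [B_swap_zero k.w'e, k.h2.pair] using congrArg (P.B · w') e0
  have h2 := lt_card_Lw he k.h2.right k.w'e fun a => h _ ((he.smul a).add k.h2.right
    (by simp [B_swap_zero k.w'e])) fun e0 => by simpa [k.we, k.h2.pair] using congrArg (P.B w) e0
  have h3 := card_Lw_mul he hT k.h2.pair
  nlinarith

end Cfsg.Agent.UR
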