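import Cfsg.Agent.UR.KL
import Cfsg.Agent.UR.N1a
import Cfsg.Agent.UR.All

/-! Rank three actions of unitary groups: the centres of transvections form a subspace. -/

set_option autoImplicit false
set_option linter.unusedSectionVars false

namespace Cfsg.Agent.UR

open Module MulAction Submodule Cfsg.Agent.Forms Cfsg.Agent.Polar Cfsg.Agent.Polar.PQ

variable {F : Type*} [Field F] [Fintype F] {q : ℕ} {hF : Fintype.card F = q ^ 2}
variable {V : Type*} [AddCommGroup V] [Module F V] [Finite V] {P : PQ (uFP hF) V}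
  {H : Subgroup P.Iso} {n : ℕ}

/-- number of centres on the line through `u`, `w`, different from `u` -/
noncomputable def a1k (H : Subgroup P.Iso) (u w : V) : ℕ := {σ : F | InS H (σ • u + w)}.ncard

/-- number of vectors of a subspace which are centres -/
noncomputable def a1v (H : Subgroup P.Iso) (A : Submodule F V) : ℕ := {x | x ∈ A ∧ InS H x}.ncard

/-- the lines through `u` in a plane which are not of type one -/
def a1G (H : Subgroup P.Iso) (u w y : V) : Set F := {s | ¬ TyI H u (s • w + y)}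

theorem a1_ne (hF : Fintype.card F = q ^ 2) : {s : F | s ≠ 0}.ncard = q ^ 2 - 1 := by
  have h3 : {s : F | s ≠ 0}.ncard + 1 = q ^ 2 := by
    rw [← u_card hF, ← AddSubgroup.card_top, ← ncard_ne_zero_addSubgroup]; simp
  omega

theorem a1_sv {u w : V} (h0 : u ≠ 0) (hw : w ∉ F ∙ u) :
    a1v H (span F {u, w}) = (q ^ 2 - 1) * a1k H u w + a1v H (F ∙ u) := by
  have hli := li_of_notMem h0 hw
  have hinj : ∀ {a b a' b' : F}, a • u + b • w = a' • u + b' • w → a = a' ∧ b = b' :=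
    fun h => LinearIndependent.eq_of_pair hli h
  have h1 : {x | x ∈ span F {u, w} ∧ InS H x} = (fun p : F × F => p.1 • (p.2 • u + w)) ''
      ({s | s ≠ 0} ×ˢ {σ : F | InS H (σ • u + w)}) ∪ {x | x ∈ F ∙ u ∧ InS H x} := by
    ext x
    constructor
    · rintro ⟨hx, hS⟩
      obtain ⟨a, s, rfl⟩ := mem_span_pair.1 hx
      by_cases hs : s = 0
      · subst hs
        exact Or.inr ⟨mem_span_singleton.2 ⟨a, by simp⟩, hS⟩
      refine Or.inl ⟨(s, a / s), ⟨hs, ?_⟩, by simp [smul_smul, mul_div_cancel₀ _ hs]⟩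
      have := hS.smul (inv_ne_zero hs)
      rwa [smul_add, smul_smul, smul_smul, inv_mul_cancel₀ hs, one_smul, ← div_eq_inv_mul] at this
    · rintro (⟨⟨s, σ⟩, ⟨hs, hσ⟩, rfl⟩ | ⟨hx, hS⟩)
      · exact ⟨smul_mem _ _ (add_mem (smul_mem _ _ (n1_left u w)) (n1_right u w)), InS.smul hσ hs⟩
      · exact ⟨span_mono (by simp) hx, hS⟩
  rw [a1v, h1, Set.ncard_union_eq (Set.disjoint_left.2 ?_), Set.InjOn.ncard_image, Set.ncard_prod,
    a1_ne hF]
  · rfl
  · rintro ⟨s, b⟩ ⟨hs0, -⟩ ⟨s', b'⟩ - h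
    simp only [smul_add, smul_smul] at h
    obtain ⟨k1, rfl⟩ := hinj h
    rw [mul_left_cancel₀ hs0 k1]
  · rintro _ ⟨⟨s, b⟩, ⟨hs0, -⟩, rfl⟩ ⟨hy, -⟩
    obtain ⟨a, ha⟩ := mem_span_singleton.1 hy
    exact hs0 (hinj (a := a) (b := 0) (by simpa [smul_smul] using ha)).2.symm

theorem a1_sv0 {u w : V} (h0 : u ≠ 0) (hw : w ∉ F ∙ u) (hS : ¬ InS H u) :
    a1v H (span F {u, w}) = (q ^ 2 - 1) * a1k H u w := by
  rw [a1_sv h0 hw, a1v, Set.eq_empty_of_forall_notMem (s := {x | x ∈ F ∙ u ∧ InS H x}),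
    Set.ncard_empty, add_zero]
  rintro _ ⟨hx, h⟩
  obtain ⟨a, rfl⟩ := mem_span_singleton.1 hx
  have ha := left_ne_zero_of_smul h.2.1
  exact hS (by simpa [smul_smul, ha] using h.smul (inv_ne_zero ha))

theorem a1_sv1 {u w : V} (hw : w ∉ F ∙ u) (hS : InS H u) :
    a1v H (span F {u, w}) = (q ^ 2 - 1) * (a1k H u w + 1) := by
  have h1 := (ncard_span_ne (F := F) hS.2.1).trans (u_card hF)
  rw [a1_sv hS.2.1 hw, a1v, mul_add_one, ← h1, Nat.add_sub_cancel]
  congr 2
  ext x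
  refine and_congr_right fun hx => ⟨fun h => h.2.1, fun h => ?_⟩
  obtain ⟨a, rfl⟩ := mem_span_singleton.1 hx
  exact hS.smul (left_ne_zero_of_smul h)

theorem a1_cj {A B : Submodule F V} (h : CjS H A B) : a1v H A = a1v H B := by
  obtain ⟨g, hg, h⟩ := h
  rw [a1v, a1v, ← Set.ncard_image_of_injective _ (MulAction.injective g)]
  congr 1
  ext x
  constructor
  · rintro ⟨y, hy, rfl⟩
    exact ⟨(h y).2 hy.1, hy.2.act hg⟩
  · intro hx
    exact ⟨g⁻¹ • x, ⟨(h _).1 (by simpa using hx.1), hx.2.act (inv_mem hg)⟩, smul_inv_smul g x⟩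

theorem a1_act {u w : V} (h : TyI H u w) {g : P.Iso} (hg : g ∈ H) : TyI H (g • u) (g • w) where
  su := h.su.act g
  u0 := act_ne_zero g h.u0
  nS := fun h1 => h.nS (by simpa using h1.act (inv_mem hg))
  sw := h.sw.act g
  perp := by simp [h.perp]
  nHit := fun ⟨a, ha, h1⟩ => h.nHit ⟨a, ha, by simpa [act_smul] using Av.act h1 (inv_mem hg)⟩
  nPrp := fun h1 => h.nPrp fun a ha => by simpa using h1 _ (Av.act ha hg)

theorem a1_nmem {u w : V} (h : ¬ Prp H u w) : w ∉ F ∙ u := fun h1 => by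
  obtain ⟨a, rfl⟩ := mem_span_singleton.1 h1
  exact h fun b hb => by simp [Av.perp hb]

theorem a1_zero (hT : TrC H) {u w : V} (h : TyI H u w) : a1k H u w = 0 := by
  rw [a1k, Set.eq_empty_of_forall_notMem (s := {σ : F | InS H (σ • u + w)}), Set.ncard_empty]
  exact fun σ h1 => ((h.right σ one_ne_zero).symm hT).nS (by simpa using h1)

/-- every line is of type one or has as many centres as a given line with a centre -/
theorem a1_two (hP : P.ND) (hT : TrC H) (hL : Ln2 H) {e z : V} (h1 : TyI H e z) {A : Submodule F V}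
    (hA : P.TotSing A) (hA2 : finrank F A = 2) (hA0 : a1v H A ≠ 0) {u w : V} (hu : P.Sing u)
    (u0 : u ≠ 0) (hw : P.Sing w) (hwu : P.B w u = 0) (hn : w ∉ F ∙ u) (h2 : ¬ TyI H u w) :
    a1v H (span F {u, w}) = a1v H A := by
  have h3 := a1_nmem h1.nPrp
  rcases hL A _ _ hA hA2 (n1_ts h1.su h1.sw h1.perp) (n1_rank2 h1.u0 h3) (n1_ts hu hw hwu)
    (n1_rank2 u0 hn) with h | h | ⟨g, hg, h⟩
  · rw [a1_cj h, a1_sv0 h1.u0 h3 h1.nS, a1_zero hT h1, mul_zero] at hA0
    exact (hA0 rfl).elim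
  · exact (a1_cj h).symm
  · have key : ∀ x ∈ span F {u, w}, x ∈ span F {g • e, g • z} := fun x hx => by
      obtain ⟨a, b, hab⟩ := mem_span_pair.1 ((h (g⁻¹ • x)).1 (by simpa using hx))
      exact mem_span_pair.2 ⟨a, b, by rw [← act_smul, ← act_smul, ← smul_add, hab, smul_inv_smul]⟩
    exact (h2 (kl0 hP hT (a1_act h1 hg) (key u (n1_left u w)) u0 (key w (n1_right u w)) hn)).elim

theorem a1_K0 {u w y : V} (hu : P.Sing u) (u0 : u ≠ 0) (hS : ¬ InS H u) (hw : P.Sing w)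
    (hwu : P.B w u = 0) (hy : P.Sing y) (hyu : P.B y u = 0) (hyw : P.B y w = 0)
    (hp : ¬ Prp H u w) :
    (a1G H u w y).ncard ≤ q + 1 ∨ ∃ s : F, Hit H u (s • w + y) ∧ Prp H u (s • w + y) := by
  obtain ⟨b, hb, hβ⟩ : ∃ b ∈ Av H u, P.B b w ≠ 0 := by simpa [Prp] using hp
  replace hβ := B_swap_ne hβ
  obtain ⟨s0, hs0⟩ : ∃ s0 : F, P.B (s0 • w + y) b = 0 :=
    ⟨-(P.B y b / P.B w b), by simp [div_mul_cancel₀ _ hβ]⟩
  have e1 : ∀ s : F, s • w + y = (s - s0) • w + (s0 • w + y) := fun s => by module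
  by_cases h : Hit H u (s0 • w + y) ∧ Prp H u (s0 • w + y)
  · exact Or.inr ⟨s0, h⟩
  left
  have h1 : ∀ s ∈ a1G H u w y \ {s0}, ∃ t : F, t ≠ 0 ∧ t • (s • w + y) ∈ Av H u := by
    rintro s ⟨hs, hs'⟩
    by_contra h2
    refine hs ⟨hu, u0, hS, (hw.smul s).add hy (by simp [B_swap_zero hyw]), by simp [hwu, hyu], h2,
      fun h3 => hs' ?_⟩
    have := B_swap_zero (h3 b hb)
    rw [e1, map_add, LinearMap.add_apply, hs0, add_zero, B_smul_left] at this
    exact sub_eq_zero.1 ((mul_eq_zero.1 this).resolve_right hβ)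
  choose! t ht ht' using h1
  have h2 : ∀ s ∈ a1G H u w y \ {s0}, ∀ b' ∈ Av H u, frobq hF (t s * ((s - s0) * P.B w b' +
      P.B (s0 • w + y) b')) = t s * ((s - s0) * P.B w b' + P.B (s0 • w + y) b') := by
    intro s hs b' hb'
    have := Av.fixed u0 hS (ht' s hs) hb'
    rwa [B_smul_left, e1, map_add, LinearMap.add_apply, B_smul_left] at this
  refine (Set.ncard_le_ncard (t := insert s0 (a1G H u w y \ {s0})) fun s hs => ?_).trans
    ((Set.ncard_insert_le _ _).trans (Nat.add_le_add_right ?_ 1))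
  · by_cases h3 : s = s0
    exacts [Or.inl h3, Or.inr ⟨hs, h3⟩]
  refine le_trans ?_ (u_ncard_fix hF).le
  rcases not_and_or.1 h with h | h
  · refine Set.ncard_le_ncard_of_injOn (fun s => t s * ((s - s0) * P.B w b))
      (fun s hs => by simpa only [hs0, add_zero, Set.mem_setOf_eq] using h2 s hs b hb) fun s hs s' hs' e => ?_
    have e2 : t s * (s - s0) = t s' * (s' - s0) := mul_right_cancel₀ hβ (by linear_combination e)
    have e3 : t s = t s' := by_contra fun h3 => h ⟨t s - t s', sub_ne_zero.2 h3, by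
      convert Av.sub (ht' s hs) (ht' s' hs') using 1
      linear_combination (norm := module) -e2 • w⟩
    rw [e3] at e2
    exact sub_left_injective (mul_left_cancel₀ (ht s' hs') e2)
  · obtain ⟨b', hb', hγ⟩ : ∃ b' ∈ Av H u, P.B b' (s0 • w + y) ≠ 0 := by simpa [Prp] using h
    replace hγ := B_swap_ne hγ
    refine Set.ncard_le_ncard_of_injOn (fun s => t s * ((s - s0) * P.B w b' + P.B (s0 • w + y) b') /
      (t s * ((s - s0) * P.B w b + P.B (s0 • w + y) b))) (fun s hs => ?_) fun s hs s' hs' e => ?_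
    · change frobq hF _ = _
      rw [map_div₀, h2 s hs b hb, h2 s hs b' hb']
    · have k1 := ht s hs
      have k2 := ht s' hs'
      have k3 : s - s0 ≠ 0 := sub_ne_zero.2 hs.2
      have k4 : s' - s0 ≠ 0 := sub_ne_zero.2 hs'.2
      simp only [hs0, add_zero] at e
      field_simp at e
      exact mul_left_cancel₀ hγ (by linear_combination -e)

theorem a1_exists (hP : P.ND) (h6 : 6 ≤ finrank F V) {u w : V} (hu : P.Sing u) (u0 : u ≠ 0)
    (hn : w ∉ F ∙ u) : ∃ y, P.Sing y ∧ P.B y u = 0 ∧ P.B y w = 0 ∧ y ∉ span F {u, w} := by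
  have : FiniteDimensional F V := Module.Finite.of_finite
  have h1 := finrank_perp hP (span F {u, w})
  have h2 := n1_rank2 u0 hn
  obtain ⟨y, hy, hy0, hys⟩ := n1_exists_sing P (A := span F {u, w}) (W := P.perp (span F {u, w}))
    (by omega)
  exact ⟨y, hys, hy u (n1_left u w), hy w (n1_right u w), hy0⟩

theorem a1_K (hP : P.ND) (h6 : 6 ≤ finrank F V) {u w : V} (hu : P.Sing u) (u0 : u ≠ 0)
    (hS : ¬ InS H u) (hw : P.Sing w) (hwu : P.B w u = 0) (hp : ¬ Prp H u w) :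
    ∃ y, P.Sing y ∧ P.B y u = 0 ∧ P.B y w = 0 ∧ y ∉ span F {u, w} ∧
      (a1G H u w y).ncard ≤ q + 1 := by
  obtain ⟨y, h1, h2, h3, h4⟩ := a1_exists hP h6 hu u0 (a1_nmem hp)
  obtain ⟨y', k1, k2, k3⟩ := n1_exists_iso hP h4 h1 fun a ha =>
    B_swap_zero (n1_B_pair (B_swap_zero h2) (B_swap_zero h3) ha)
  have k4 := k2 u (n1_left u w)
  have k5 := k2 w (n1_right u w)
  rcases a1_K0 hu u0 hS hw hwu h1 h2 h3 hp with h | ⟨s, ⟨t, ht, h⟩, -⟩
  · exact ⟨y, h1, h2, h3, h4, h⟩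
  rcases a1_K0 hu u0 hS hw hwu k1 k4 k5 hp with h' | ⟨s', -, h'⟩
  · refine ⟨y', k1, k4, k5, fun hy => one_ne_zero (k3.symm.trans ?_), h'⟩
    exact n1_B_pair (B_swap_zero h2) (B_swap_zero h3) hy
  · have := h' _ h
    simp [hw.B_self, h3, B_swap_zero k5, u_swap y' y, k3, ht] at this

theorem a1_tyI (hP : P.ND) (h6 : 6 ≤ finrank F V) (hq : 3 ≤ q) {e d : V} (e0 : e ≠ 0)
    (hS : ¬ InS H e) (hd : d ∈ Av H e) (hd0 : d ∉ F ∙ e) : ∃ z, TyI H e z := by
  have : FiniteDimensional F V := Module.Finite.of_finite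
  obtain ⟨f, h⟩ := hP.exists_hyp (Av.sing hd) e0
  have h1 := h.finrank_perp
  obtain ⟨w, hw, hws, hdw⟩ := h.exists_sing_perp_ne hP (u_iso _ (by omega)) (h.hproj_mem d)
    fun h0 => hd0 (mem_span_singleton.2 ⟨_, by
      rw [Hyp.eq_of_perp (f := f) (Av.perp hd), h0, zero_add]⟩)
  rw [Hyp.B_hproj_right _ hw] at hdw
  obtain ⟨y, -, -, -, -, h2⟩ := a1_K hP h6 h.left e0 hS hws (mem_perp_pair.1 hw).1
    fun hp => hdw (hp d hd)
  by_contra h3
  push Not at h3
  rw [Set.eq_univ_of_forall (s := a1G H e w y) fun s => h3 _, Set.ncard_univ, u_card hF] at h2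
  nlinarith

theorem a1_nz {a b : V} (ha : InS H a) (hb : InS H b) (hab : P.B a b = 0) (h0 : a + b ≠ 0)
    (hS : ¬ InS H (a + b)) : ∃ e d, e ≠ 0 ∧ ¬ InS H e ∧ d ∈ Av H e ∧ d ∉ F ∙ e := by
  have hn : ∀ s t : F, s • a + t • b = 0 → t = 0 := fun s t h => by_contra fun ht => by
    have e : a + b = (1 - s / t) • a := by
      refine smul_right_injective V ht ?_
      simp only [smul_smul, mul_sub, mul_div_cancel₀ _ ht]
      linear_combination (norm := module) h
    exact hS (e ▸ ha.smul (left_ne_zero_of_smul (e ▸ h0)))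
  have hn' : ∀ s t : F, s • a + t • b = 0 → s = 0 := fun s t h => by
    rw [hn s t h, zero_smul, add_zero] at h
    exact (smul_eq_zero.1 h).resolve_right ha.2.1
  by_contra hc
  push Not at hc
  obtain ⟨sa, -, c, hc1, hc0, hH⟩ := ha
  obtain ⟨sb, -, c', hc1', hc0', hH'⟩ := hb
  have hu := sa.add sb hab
  have hbu : P.B b (a + b) = 0 := by simp [B_swap_zero hab, sb.B_self]
  have h1 : ∀ t : F, t * frobq hF t = c' / c → InS H (a - t • b) := fun t ht => by_contra fun h => by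
    have t0 : t ≠ 0 := by rintro rfl; exact div_ne_zero hc0' hc0 (by simpa using ht.symm)
    have he : P.Sing (a - t • b) := by
      rw [sub_eq_add_neg]; exact sa.add (sb.smul t).neg (by simp [hab])
    obtain ⟨s, hs⟩ := mem_span_singleton.1 (hc _ _ (fun e => one_ne_zero (hn' 1 (-t) (by
      rw [← e]; module))) h (sub_mem_Av he (sb.smul t) (by simp [B_swap_zero hab, sb.B_self])
      (a := 1) (b := 0) hc1 (by simpa using hH) (by
        rwa [zero_smul, zero_add, transvec_smul sb hc1, ht, div_mul_cancel₀ _ hc0])))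
    obtain rfl := hn' s (c * t - s * t) (by
      simp only [zero_sub, map_neg, map_one] at hs
      linear_combination (norm := module) hs)
    exact smul_ne_zero (mul_ne_zero (by simp) hc0) (smul_ne_zero t0 (fun e => one_ne_zero
      (hn 0 1 (by simp [e])))) (hs.symm.trans (zero_smul _ _))
  have h2 : ∀ t : F, t * frobq hF t = c' / c → 1 + t ≠ 0 := fun t ht e => hS (by
    have := h1 t ht
    rwa [eq_neg_of_add_eq_zero_right e, neg_smul, one_smul, sub_neg_eq_add] at this)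
  have h3 : ∀ t : F, t * frobq hF t = c' / c → InS H ((-(1 + t)⁻¹) • (a + b) + b) := fun t ht => by
    convert (h1 t ht).smul (neg_ne_zero.2 (inv_ne_zero (h2 t ht))) using 1
    have := h2 t ht
    match_scalars <;> field_simp <;> ring
  choose! γ k1 k2 k3 using fun t ht => (h3 t ht).2.2
  have h4 := Set.ncard_le_ncard_of_injOn (s := {t : F | t * frobq hF t = c' / c})
    (t := ((uFP hF).Λ : Set F)) γ k1 fun t ht t' ht' e => by
      obtain ⟨s, hs⟩ := mem_span_singleton.1 (hc _ _ h0 hS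
        (sub_mem_Av hu sb hbu (k1 t ht) (k3 t ht) (e ▸ k3 t' ht')))
      obtain rfl := hn' s (s - frobq hF (-(1 + t')⁻¹ - -(1 + t)⁻¹) * γ t) (by
        linear_combination (norm := module) hs)
      have := (smul_eq_zero.1 (hs.symm.trans (zero_smul _ _))).resolve_right
        fun e => one_ne_zero (hn 0 1 (by simp [e]))
      rw [mul_eq_zero, or_iff_left (k2 t ht), map_eq_zero, sub_eq_zero, neg_inj, inv_inj] at this
      exact (add_left_cancel this).symm
  rw [u_ncard_norm_eq hF (by rw [map_div₀, u_lam_tau hc1, u_lam_tau hc1', neg_div_neg_eq])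
    (div_ne_zero hc0' hc0), show ((uFP hF).Λ : Set F).ncard = q from card_lam hF] at h4
  omega

/-- the double count in a plane -/
theorem a1_count (hT : TrC H) {k : ℕ} (h : ∀ u w, P.Sing u → u ≠ 0 → P.Sing w → P.B w u = 0 →
      w ∉ F ∙ u → ¬ TyI H u w → a1v H (span F {u, w}) = (q ^ 2 - 1) * (k + 1))
    {u w y : V} (hu : P.Sing u) (u0 : u ≠ 0) (hS : ¬ InS H u) (hw : InS H w) (hwu : P.B w u = 0)
    (hy : P.Sing y) (hyu : P.B y u = 0) (hyw : P.B y w = 0) (hn : y ∉ span F {u, w}) :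
    (∀ s ∈ a1G H u w y, a1k H u (s • w + y) = k + 1) ∧
      (a1G H u w y).ncard * (k + 1) = q ^ 2 * k := by
  have hq := two_le_q hF
  have hq2 : 0 < q ^ 2 - 1 := Nat.sub_pos_of_lt (Nat.one_lt_pow (by omega) (by omega))
  have h1 : ∀ s ∈ a1G H u w y, a1k H u (s • w + y) = k + 1 := fun s hs => by
    have h2 : s • w + y ∉ F ∙ u := fun e => hn (by
      simpa using sub_mem (span_mono (by simp) e : _ ∈ span F {u, w}) (smul_mem _ s (n1_right u w)))
    have := h u _ hu u0 ((hw.1.smul s).add hy (by simp [B_swap_zero hyw])) (by simp [hwu, hyu]) h2 hs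
    rw [a1_sv0 u0 h2 hS] at this
    exact Nat.eq_of_mul_eq_mul_left hq2 this
  refine ⟨h1, ?_⟩
  rw [← u_card hF, ← Set.ncard_univ]
  refine ncard_double (Set.toFinite _) (Set.toFinite _) (fun s σ => InS H (σ • u + (s • w + y)))
    (fun s hs => by simpa [a1k] using h1 s hs) fun σ _ => ?_
  have h2 : σ • u + y ∉ F ∙ w := fun e => hn (by
    simpa using sub_mem (span_mono (by simp) e : _ ∈ span F {u, w}) (smul_mem _ σ (n1_left u w)))
  have h3 := h w _ hw.1 hw.2.1 ((hu.smul σ).add hy (by simp [B_swap_zero hyu]))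
    (by simp [B_swap_zero hwu, hyw]) h2 fun e => e.nS hw
  rw [a1_sv1 h2 hw] at h3
  rw [← Nat.add_right_cancel (Nat.eq_of_mul_eq_mul_left hq2 h3), a1k]
  congr 1
  ext s
  rw [Set.mem_setOf_eq, Set.mem_setOf_eq, add_left_comm]
  exact and_iff_right_of_imp fun e e' => ((e'.right σ one_ne_zero).symm hT).nS
    (by rwa [one_smul, add_left_comm])

theorem a1 (hP : P.ND) (hn : finrank F V = n) (h6 : 6 ≤ n) (hq : 3 ≤ q) (hT : TrC H) (hL : Ln2 H) :
    ∀ a b, InS H a → InS H b → P.B a b = 0 → a + b ≠ 0 → InS H (a + b) := by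
  intro a b ha hb hab h0
  by_contra hS
  subst hn
  obtain ⟨e, d, e0, hSe, hd, hd0⟩ := a1_nz ha hb hab h0 hS
  obtain ⟨z, hz⟩ := a1_tyI hP h6 hq e0 hSe hd hd0
  have hu := ha.1.add hb.1 hab
  have hbu : P.B b (a + b) = 0 := by simp [B_swap_zero hab, hb.1.B_self]
  have hbn : b ∉ F ∙ (a + b) := fun e => by
    obtain ⟨s, hs⟩ := mem_span_singleton.1 e
    have s0 : s ≠ 0 := left_ne_zero_of_smul (hs ▸ hb.2.1)
    exact hS (by simpa [smul_smul, s0] using (show InS H (s • (a + b)) by rwa [hs]).smul (inv_ne_zero s0))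
  obtain ⟨k, hk, hk1⟩ : ∃ k, a1k H (a + b) b = k + 1 ∧ 1 ≤ k := by
    have : 1 < a1k H (a + b) b := (Set.one_lt_ncard_iff (Set.toFinite _)).2 ⟨0, -1,
      by simpa using hb, by simpa using ha.smul (a := -1) (by simp), by simp⟩
    exact ⟨a1k H (a + b) b - 1, by omega, by omega⟩
  have hq2 : 0 < q ^ 2 - 1 := Nat.sub_pos_of_lt (Nat.one_lt_pow (by omega) (by omega))
  have h1 := a1_sv0 h0 hbn hS
  rw [hk] at h1
  have key : ∀ u w, P.Sing u → u ≠ 0 → P.Sing w → P.B w u = 0 → w ∉ F ∙ u → ¬ TyI H u w →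
      a1v H (span F {u, w}) = (q ^ 2 - 1) * (k + 1) := fun u w k1 k2 k3 k4 k5 k6 =>
    (a1_two hP hT hL hz (n1_ts hu hb.1 hbu) (n1_rank2 h0 hbn) (by rw [h1]; positivity)
      k1 k2 k3 k4 k5 k6).trans h1
  generalize a + b = u at *
  obtain ⟨y, y1, y2, y3, y4⟩ := a1_exists hP h6 hu h0 hbn
  obtain ⟨c1, c2⟩ := a1_count hT key hu h0 hS hb hbu y1 y2 y3 y4
  obtain ⟨s, hs, hp⟩ : ∃ s ∈ a1G H u b y, ¬ Prp H u (s • b + y) := by
    by_contra hc
    push Not at hc
    obtain ⟨s, t, hs, ht, hst⟩ := (Set.one_lt_ncard_iff (Set.toFinite (a1G H u b y))).1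
      (by
        by_contra h2
        have h3 := Nat.mul_le_mul_right (k + 1) (not_lt.1 h2)
        have h4 : 9 * k ≤ q ^ 2 * k := Nat.mul_le_mul_right _ (by nlinarith)
        omega)
    rw [Set.eq_univ_of_forall (s := a1G H u b y) fun r hr => hr.nPrp fun x hx => ?_,
      Set.ncard_univ, u_card hF] at c2
    · nlinarith
    have k1 := hc s hs x hx
    have k2 := hc t ht x hx
    simp only [map_add, B_smul_right] at k1 k2 ⊢
    have k3 : P.B x b = 0 := mul_left_cancel₀ (sub_ne_zero.2 ((frobq hF).injective.ne hst))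
      (by linear_combination k1 - k2)
    rw [k3, mul_zero] at k1 ⊢
    exact k1
  obtain ⟨σ, hσ⟩ : ∃ σ : F, InS H (σ • u + (s • b + y)) :=
    Set.nonempty_of_ncard_ne_zero (s := {σ : F | InS H (σ • u + (s • b + y))})
      ((c1 s hs).trans_ne (by omega))
  have hw : P.B (σ • u + (s • b + y)) u = 0 := by simp [hu.B_self, hbu, y2]
  obtain ⟨y', k1, k2, k3, k4, k5⟩ := a1_K hP h6 hu h0 hS hσ.1 hw fun h2 => hp fun x hx => by
    simpa [Av.perp hx] using h2 x hx
  have c3 := (a1_count hT key hu h0 hS hσ hw k1 k2 k3 k4).2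
  have c4 := Nat.mul_le_mul_right (k + 1) k5
  have c5 : 3 * q * k ≤ q ^ 2 * k := Nat.mul_le_mul_right _ (by nlinarith)
  nlinarith

end Cfsg.Agent.UR
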