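import Cfsg.Agent.UR.Base
import Cfsg.Agent.TT.Base

/-! Rank three actions of unitary groups: index bounds when `H` meets all `Q_u` trivially. -/

set_option autoImplicit false
set_option linter.unusedSectionVars false

namespace Cfsg.Agent.UR

open Module MulAction Cfsg.Agent.Forms Cfsg.Agent.Polar Cfsg.Agent.Polar.PQ

variable {F : Type*} [Field F] [Fintype F] {q : ℕ} {hF : Fintype.card F = q ^ 2}
  {V : Type*} [AddCommGroup V] [Module F V] [Finite V] {P : PQ (uFP hF) V} {H : Subgroup P.Iso} {n : ℕ}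
  {X : Type*} [Finite X] [MulAction P.EG X] {x : X}

theorem ib_card_U (hn : finrank F V = n) {e f : V} (h : P.Hyp e f) : Nat.card (P.U e) = q ^ (2 * n - 3) := by
  have : FiniteDimensional F V := Module.Finite.of_finite
  have h1 := h.finrank_perp
  obtain ⟨d, rfl⟩ : ∃ d, n = d + 2 := ⟨n - 2, by omega⟩
  rw [h.card_U, h.u_card_perp hn, card_lam, show 2 * (d + 2) - 3 = d + d + 1 by omega]; ring

theorem ib_rel_U (hn : finrank F V = n) (hQ : NoQ H) {e f : V} (h : P.Hyp e f) :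
    H.relIndex (P.U e) = q ^ (2 * n - 3) := by
  have h1 := relIndex_mul_card H (P.U e)
  rw [show H ⊓ P.U e = ⊥ from eq_bot_iff.2 fun g hg => hQ e h.left h.left_ne_zero g hg.1 hg.2,
    Subgroup.card_bot, mul_one] at h1
  rw [h1, ib_card_U hn h]

theorem ib (_hP : P.ND) (hn : finrank F V = n) (R : Rk3 P x) (hQ : NoQ (Hx P x)) {e f : V} (h : P.Hyp e f) :
    q ^ (2 * n - 3) * (P.Kc (Hx P x) e).relIndex (P.Lv e f) ≤ Nat.card X := by
  rw [← R.index, mul_comm, ← ib_rel_U hn hQ h]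
  exact (Nat.mul_le_mul_right _ (relIndex_mono_right _ (Lv_le_Gam e f))).trans
    ((h.relIndex_Gam _).ge.trans (relIndex_mono_right _ (Gam_le_EG e)))

/-- the version for the group induced on `W = perp {e, f}` -/
theorem ib_res (hP : P.ND) (hn : finrank F V = n) (R : Rk3 P x) (hQ : NoQ (Hx P x)) {e f : V} (h : P.Hyp e f) :
    q ^ (2 * n - 3) * ((P.Kc (Hx P x) e).comap h.emb.ext).relIndex (P.res (P.perp {e, f})).EG ≤ Nat.card X :=
  (Nat.mul_le_mul_left _ (h.relIndex_comap_le _)).trans (ib hP hn R hQ h)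

theorem NoQ.ib_smul (hQ : NoQ (Hx P x)) (k : P.EG) : NoQ (Hx P (k • x)) := fun u hu h0 g hg hU => by
  have := hQ (k.1⁻¹ • u) (hu.act _) (act_ne_zero _ h0) _ ((mem_Hx_smul k).1 hg)
    (by simpa using conj_mem_U (g := k.1⁻¹) hU)
  simpa [mul_assoc, inv_mul_eq_one] using this

theorem Cen.ib_smul (k : P.EG) {u w : V} (hu : Cen (Hx P (k • x)) u w) : Cen (Hx P x) (k.1⁻¹ • u) (k.1⁻¹ • w) := by
  obtain ⟨h1, h2, h3, c, hc, h0, y, hy, hH⟩ := hu
  refine ⟨h1.act _, by simpa using h2, fun e => h3 ?_, c, hc, h0, _, conj_mem_U (g := k.1⁻¹) hy, ?_⟩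
  · obtain ⟨a, ha⟩ := Submodule.mem_span_singleton.1 e
    rw [← act_smul] at ha
    exact Submodule.mem_span_singleton.2 ⟨a, smul_left_cancel _ ha⟩
  · rw [← conj_tv h1 hc]
    simpa [mul_assoc] using (mem_Hx_smul k).1 hH

/-- a transvection of `W` in the residue gives a centre -/
theorem ib_cen_of_Kc {e f : V} (h : P.Hyp e f) {w : P.perp {e, f}} (hw : P.Sing w.1) (h0 : w ≠ 0) {c : F}
    (hc : c ∈ (uFP hF).Λ) (hc0 : c ≠ 0)
    (hK : (P.res (P.perp {e, f})).eich w 0 c ∈ (P.Kc H e).comap h.emb.ext) : Cen H e w := by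
  rw [Subgroup.mem_comap, h.emb.ext_eich (EOk.lam (e := w) hw hc), map_zero, h.emb_i, h.mem_Kc] at hK
  obtain ⟨h1, a, ha, h2⟩ := hK
  refine ⟨hw, (mem_perp_pair.1 w.2).1, fun e1 => h0 ?_, c, hc, hc0, _,
    conj_mem_U_of_pst (inv_mem h1.1) ha, by simpa [mul_assoc] using h2⟩
  obtain ⟨t, ht⟩ := Submodule.mem_span_singleton.1 e1
  have := (mem_perp_pair.1 w.2).2
  rw [← ht] at this
  exact Subtype.ext (by rw [← ht, show t = 0 by simpa [h.pair] using this, zero_smul]; rfl)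

/-- the index of a subgroup without transvections with centre `w` in `Q_w` -/
theorem ib_rel_tv (hP : P.ND) {d : ℕ} (hd : finrank F V = d + 2) {e f : V} (h : P.Hyp e f)
    (hT : ∀ c ∈ (uFP hF).Λ, P.eich e 0 c ∈ H → c = 0) : q ^ (d + 1) ≤ H.relIndex (P.U e) := by
  have hq := two_le_q hF
  have hD : P.Dv H h.left = ⊥ := eq_bot_iff.2 fun c hc => hT c hc.1 hc.2
  obtain ⟨j, hj⟩ := exists_mul_card_eq (h.Yv_le H)
  obtain ⟨γ, hγ, hγ0⟩ := u_exists_lam hF
  have h4 := h.card_Yv_sq_le hP u_hmin (H := H) fun e1 => hγ0 (by simpa [hD] using e1 hγ)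
  rw [h.relIndex_U H (i := q) (j := j) (by rw [hD, AddSubgroup.card_bot, mul_one, card_lam]) hj, pow_succ]
  change j * _ = Nat.card (P.perp {e, f}) at hj
  rw [h.u_card_perp hd] at hj h4
  refine Nat.mul_le_mul_right _ (Nat.le_of_mul_le_mul_right (c := q ^ d) ?_ (by positivity))
  exact hj.ge.trans (Nat.mul_le_mul_left _ (Nat.mul_self_le_mul_self_iff.1 h4))

theorem ib_Hx_rel (x : X) {Γ : Subgroup P.Iso} (h : Γ ≤ P.EG) :
    (stabilizer P.EG x).relIndex (Γ.subgroupOf P.EG) = (Hx P x).relIndex Γ := by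
  rw [← Hx_sub, Subgroup.relIndex_subgroupOf h]

theorem ib_q_pow (hF : Fintype.card F = q ^ 2) : ∃ p a : ℕ, p.Prime ∧ q = p ^ a := by
  obtain ⟨p, hp⟩ := CharP.exists F
  obtain ⟨m, h1, h2⟩ := FiniteField.card F p
  obtain ⟨a, -, ha⟩ := (Nat.dvd_prime_pow h1).1 (show q ∣ p ^ (m : ℕ) from h2 ▸ hF ▸ dvd_pow_self q two_ne_zero)
  exact ⟨p, a, h1, ha⟩

/-- `q ^ (3n - 6)` divides the degree when there are no centres -/
theorem ib_dvd (hP : P.ND) (hn : finrank F V = n) (h4 : 4 ≤ n) (R : Rk3 P x) (hQ : NoQ (Hx P x))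
    (hC : ∀ u w, ¬ Cen (Hx P x) u w) : q ^ (3 * n - 6) ∣ Nat.card X := by
  have : FiniteDimensional F V := Module.Finite.of_finite
  obtain ⟨p, a, hp, hqa⟩ := ib_q_pow hF
  have := Fact.mk hp
  have hpw : ∀ m, q ^ m = p ^ (a * m) := fun m => by rw [pow_mul, ← hqa]
  obtain ⟨e, he0, he⟩ := u_exists_sing P (by omega)
  obtain ⟨f, h⟩ := hP.exists_hyp he he0
  have h1 := h.finrank_perp
  obtain ⟨w, hw0, hw⟩ := u_exists_sing (P.res (P.perp {e, f})) (by omega)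
  obtain ⟨w', h'⟩ := (h.emb.nd hP).exists_hyp hw hw0
  obtain ⟨d, rfl⟩ : ∃ d, n = d + 4 := ⟨n - 4, by omega⟩
  set A := ((P.res (P.perp {e, f})).U w).map h.emb.ext with hA
  have hAL : A ≤ P.Lv e f := by rintro _ ⟨g, hg, rfl⟩; exact h.ext_mem_Lv (h'.U_le_EG hg)
  have hY : P.U e ⊔ A ≤ P.Gam e := sup_le h.U_le_Gam (hAL.trans (Lv_le_Gam e f))
  have hN : ∀ g ∈ P.U e ⊔ A, ∀ u ∈ P.U e, g * u * g⁻¹ ∈ P.U e := fun g hg u hu => conj_mem_U_of_pst (hY hg).1 hu
  have p1 : IsPGroup p (P.U e) := IsPGroup.of_card ((ib_card_U hn h).trans (hpw _))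
  have p2 : IsPGroup p A :=
    (IsPGroup.of_card ((ib_card_U rfl h').trans (hpw _))).map _
  have p3 : IsPGroup p (P.U e ⊔ A : Subgroup P.Iso) := p1.to_sup_of_normal_left' p2 fun g hg =>
    Subgroup.mem_normalizer_iff.2 fun u => ⟨hN g (le_sup_right (a := P.U e) hg) u, fun hu => by
      simpa [mul_assoc] using hN _ (inv_mem (le_sup_right (a := P.U e) hg)) _ hu⟩
  rw [hpw]
  refine TT.pow_dvd_card (G := P.EG) (Y := (P.U e ⊔ A).subgroupOf P.EG) p3.comap_subtype fun y => ?_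
  obtain ⟨k, rfl⟩ := R.trans.exists_smul_eq x y
  rw [← hpw, ib_Hx_rel _ (hY.trans (Gam_le_EG e)), relIndex_cov le_sup_left hN, ib_rel_U hn (hQ.ib_smul k) h,
    show 3 * (d + 4) - 6 = d + 1 + (2 * (d + 4) - 3) by omega, pow_add]
  refine Nat.mul_le_mul_right _ (le_trans ?_ (relIndex_mono_right _ le_sup_right))
  refine le_trans ?_ (relIndex_anti_left (K' := P.Kc (Hx P (k • x)) e) A fun g hg => ?_)
  · rw [hA, ← Subgroup.relIndex_comap]
    refine ib_rel_tv (h.emb.nd hP) (by omega) h' fun c hc hK => by_contra fun h0 => ?_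
    exact hC _ _ ((ib_cen_of_Kc h hw hw0 hc h0 hK).ib_smul k)
  · obtain ⟨h2, h3⟩ := (mem_cov le_sup_left hN).1 hg.1
    exact h.mem_Kc.2 ⟨hY h2, h3⟩

theorem ib_ar1 {q a N m : ℕ} (hq : 2 ≤ q) (ha : q ≤ a) (h1 : (q ^ 2 - 1) * m + 1 = N)
    (h2 : (a * q ^ 2) ^ 2 + 1 * (a * q ^ 2) ≤ q * N + q * (a * q ^ 2)) : q * (a * a) ≤ m := by
  have h3 : 1 ≤ q ^ 2 := Nat.one_le_pow _ _ (by omega)
  subst h1
  zify [h3] at *
  refine le_of_mul_le_mul_left (a := (q : ℤ) * (q ^ 2 - 1)) ?_ (by nlinarith)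
  have h4 : (0 : ℤ) ≤ q ^ 2 * a * (a - q) := by have : (0 : ℤ) ≤ a - q := by omega
                                                positivity
  have h5 : (0 : ℤ) ≤ q * (q * a - 1) := mul_nonneg (by omega) (by nlinarith)
  nlinarith

theorem ib_ar2 {q a m : ℕ} (hq : 2 ≤ q) (ha : 1 ≤ a)
    (h2 : (a * q ^ 2) ^ 2 ≤ q * (m * (q + 1)) + 1 * (a * q ^ 2)) : q * (a * a) ≤ m := by
  zify at *
  refine le_of_mul_le_mul_left (a := (q : ℤ) * (q + 1)) ?_ (by nlinarith)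
  have h4 : (0 : ℤ) ≤ q ^ 2 * a * ((q ^ 2 - q - 1) * a - 1) :=
    mul_nonneg (by positivity) (by nlinarith [mul_nonneg (show (0 : ℤ) ≤ q ^ 2 - q - 2 by nlinarith) (show (0 : ℤ) ≤ a by omega)])
  nlinarith

theorem ib_pst (hP : P.ND) {d : ℕ} (hd : finrank F V = d + 2) (h1 : 1 ≤ d) {v : V} (hv0 : v ≠ 0) :
    q * (q ^ d * q ^ d) ≤ (P.pst v).relIndex P.EG := by
  have hq := two_le_q hF
  have hc := u_count (d + 2) V P hP hd
  have ha : q ≤ q ^ d := by simpa using Nat.pow_le_pow_right (show 0 < q by omega) h1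
  rw [pow_add q d 2] at hc
  by_cases hv : P.Sing v
  · refine ib_ar1 hq ha (u_sing_index hP hv hv0) ?_
    rcases Nat.even_or_odd (d + 2) with h | h
    · have := (hc.1 h).1
      have := Nat.mul_le_mul_right (q ^ d * q ^ 2) (show 1 ≤ q by omega)
      omega
    · exact (hc.2 h).1.ge
  · have h4 := mt (sing_iff_of_QEq (QEq.self v)).2 hv
    refine ib_ar2 hq (by omega) ?_
    rw [← u_nonsing_index hP (by omega) hv]
    rcases Nat.even_or_odd (d + 2) with h | h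
    · have := (hc.1 h).2 _ h4
      omega
    · have := (hc.2 h).2 _ h4
      omega

/-- a proper subgroup of `SU_m(q)`, `m ≥ 5`, has index at least `q ^ (2m - 3)` -/
theorem ib_min (hP : P.ND) {d : ℕ} (hd : finrank F V = d + 2) (h3 : 3 ≤ d) (hH : ¬ P.EG ≤ H) :
    q * (q ^ d * q ^ d) ≤ H.relIndex P.EG := by
  by_contra hlt
  obtain ⟨v, hv, h⟩ := u_fix_point hP hd h3 hH ((not_le.1 hlt).trans_le (Nat.mul_le_mul_right _ (by omega)))
  exact hlt ((ib_pst hP hd (by omega) hv).trans (relIndex_anti_left _ (inf_le_left.trans h)))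

/-- lower bounds for the degree when there are no centres -/
theorem ib_low (hP : P.ND) (hn : finrank F V = n) (h6 : 6 ≤ n) (R : Rk3 P x) (hQ : NoQ (Hx P x))
    (hC : ∀ u w, ¬ Cen (Hx P x) u w) :
    (n = 6 → (q + 1) * q ^ 12 ≤ Nat.card X) ∧ (7 ≤ n → q ^ (4 * n - 10) ≤ Nat.card X) := by
  have : FiniteDimensional F V := Module.Finite.of_finite
  obtain ⟨e, he0, he⟩ := u_exists_sing P (by omega)
  obtain ⟨f, h⟩ := hP.exists_hyp he he0
  have h1 := h.finrank_perp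
  obtain ⟨w, hw0, hw⟩ := u_exists_sing (P.res (P.perp {e, f})) (by omega)
  obtain ⟨γ, hγ, hγ0⟩ := u_exists_lam hF
  have h2 : ¬ (P.res (P.perp {e, f})).EG ≤ (P.Kc (Hx P x) e).comap h.emb.ext := fun hle =>
    hC _ _ (ib_cen_of_Kc h hw hw0 hγ hγ0 (hle (eich_mem_EG _ _ _)))
  refine ⟨fun h3 => le_trans ?_ (ib_res hP hn R hQ h), fun h3 => le_trans ?_ (ib_res hP hn R hQ h)⟩
  · subst h3
    refine le_trans (le_of_eq ?_) (Nat.mul_le_mul_left _ (u_weak 3 le_rfl _ _ (h.emb.nd hP) (by omega) _ h2))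
    ring
  · obtain ⟨d, rfl⟩ : ∃ d, n = d + 4 := ⟨n - 4, by omega⟩
    refine le_trans (le_of_eq ?_) (Nat.mul_le_mul_left _ (ib_min (h.emb.nd hP) (d := d) (by omega) (by omega) h2))
    rw [show 4 * (d + 4) - 10 = (2 * (d + 4) - 3) + (1 + (d + d)) by omega]; ring

end Cfsg.Agent.UR
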