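import Cfsg.Agent.UR.BL
import Cfsg.Agent.UR.IB

/-! Rank three actions of unitary groups: subgroups without transvections have large index. -/

set_option autoImplicit false
set_option linter.unusedSectionVars false

namespace Cfsg.Agent.UR

open Module MulAction Cfsg.Agent.Forms Cfsg.Agent.Polar Cfsg.Agent.Polar.PQ

variable {F : Type*} [Field F] [Fintype F] {q : ℕ} {hF : Fintype.card F = q ^ 2}
  {V : Type*} [AddCommGroup V] [Module F V] [Finite V] {P : PQ (uFP hF) V} {H : Subgroup P.Iso}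
  {n : ℕ}

section Aux
variable {K : Subgroup P.Iso} {Y : AddSubgroup V}

theorem lb_sq_le (hP : P.ND) (hB : ∀ x ∈ Y, ∀ y ∈ Y, frobq hF (P.B x y) = P.B x y) :
    Nat.card Y * Nat.card Y ≤ Nat.card V := by
  obtain ⟨θ, hθ⟩ := exists_frobq_ne hF
  obtain ⟨ψ, hψ, -⟩ := exists_addChar_ker (D := (⊥ : AddSubgroup F)) (c := θ - frobq hF θ)
    (by simpa [sub_eq_zero] using hθ.symm)
  have := (isBich_comm (P := P) ψ).card_sq_le (A := ⊤) (Y := Y) le_top
    (fun y _ hy => by_contra fun h0 => by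
      obtain ⟨a, ha⟩ := hP.exists_eq h0 θ
      have := hy a trivial
      rw [u_swap y a, ha] at this
      exact hψ this)
    (fun x hx y hy => by rw [u_swap x y, hB x hx y hy, sub_self, AddChar.map_zero_eq_one])
  rwa [AddSubgroup.card_top] at this

theorem lb_iso (hY : q ^ 3 ≤ Nat.card Y) (hB : ∀ x ∈ Y, ∀ y ∈ Y, frobq hF (P.B x y) = P.B x y)
    (hs : ∀ a, frobq hF a = a → ∀ y ∈ Y, a • y ∈ Y) : ∃ x ∈ Y, x ≠ 0 ∧ P.Sing x := by
  have hq := two_le_q hF
  have hker : ∀ Z ≤ Y, ∀ x ∈ Y, Nat.card Z ≤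
      Nat.card (Z ⊓ (P.B.flip x).toAddMonoidHom.ker : AddSubgroup V) * q := fun Z hZ x hx =>
    (card_le_ker_mul Z _ (Z := fixA hF) fun y hy => hB y (hZ hy) x hx).trans_eq
      (by rw [card_fixA])
  by_contra h1
  push Not at h1
  have h0 : ∀ Z : AddSubgroup V, q ≤ Nat.card Z → ∃ x ∈ Z, x ≠ 0 := fun Z hZ =>
    exists_ne_zero_of_card (by omega)
  have hq2 : q ≤ q ^ 2 := Nat.le_self_pow (by omega) q
  obtain ⟨u, hu, hu0⟩ := h0 Y ((Nat.le_self_pow (by omega) q).trans hY)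
  have k1 : q ^ 2 ≤ Nat.card (Y ⊓ (P.B.flip u).toAddMonoidHom.ker : AddSubgroup V) :=
    Nat.le_of_mul_le_mul_right (c := q) (by
      rw [← pow_succ]; exact hY.trans (hker Y le_rfl u hu)) (by omega)
  obtain ⟨v, hv, hv0⟩ := h0 _ (hq2.trans k1)
  obtain ⟨w, hw, hw0⟩ := h0 _ (Nat.le_of_mul_le_mul_right (c := q)
    ((sq q).ge.trans (k1.trans (hker _ inf_le_left v hv.1))) (by omega))
  have k2 : P.B v u = 0 := hv.2
  have k3 : P.B w u = 0 := hw.1.2
  have k4 : P.B w v = 0 := hw.2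
  have hn : ∀ x ∈ Y, x ≠ 0 → P.B x x ≠ 0 := fun x hx hx0 => mt u_sing_iff.2 (h1 x hx hx0)
  obtain ⟨a, b, ha, hb, hab⟩ := exists_fix_binary hF (u_fix_B_self u) (u_fix_B_self v)
    (u_fix_B_self w) (hn u hu hu0) (hn v hv.1 hv0)
  refine hn (a • u + b • v + w) (add_mem (add_mem (hs a ha u hu) (hs b hb v hv.1)) hw.1.1)
    (fun h0 => hn w hw.1.1 hw0 ?_) ?_
  · simpa [k3, k4] using congrArg (P.B w) h0
  · simp only [map_add, LinearMap.add_apply, B_smul_left, B_smul_right, k2, k3, k4,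
      B_swap_zero k2, B_swap_zero k3, B_swap_zero k4, ha, hb]
    linear_combination hab

theorem lb_not_le (hP : P.ND) (h3 : 3 ≤ finrank F V)
    (hK : ∀ g ∈ K, g ∈ P.EG → ∀ y ∈ Y, g • y ∈ Y)
    (hB : ∀ x ∈ Y, ∀ y ∈ Y, frobq hF (P.B x y) = P.B x y) (hY : Y ≠ ⊥) : ¬ P.EG ≤ K := fun hle => by
  have : FiniteDimensional F V := Module.Finite.of_finite
  obtain ⟨y, hy, hy0⟩ := exists_ne_zero_of_ne_bot hY
  obtain ⟨e, he0, he⟩ := u_exists_sing P (by omega)
  obtain ⟨f, h⟩ := hP.exists_hyp he he0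
  obtain ⟨z, hz, hyz⟩ := h.exists_sing_ne' hP hy0
  obtain ⟨c, hc, hc0⟩ := u_exists_lam hF
  obtain ⟨θ, hθ⟩ := exists_frobq_ne hF
  have h1 := sub_mem hy (hK _ (hle (eich_mem_EG z 0 c)) (eich_mem_EG _ _ _) y hy)
  rw [tv_smul hz hc, sub_sub_cancel] at h1
  have h2 : ∀ x, P.Sing x → x ≠ 0 → x ∈ Y := fun x hx hx0 => by
    obtain ⟨g, hg, rfl⟩ := u_vTrans hP h3 _ x (hz.smul (c * P.B y z)) hx
      (smul_ne_zero (mul_ne_zero hc0 hyz) (by rintro rfl; simp at hyz)) hx0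
    exact hK g (hle hg) hg _ h1
  have h4 := hB _ (h2 _ (he.smul θ) (smul_ne_zero (by rintro rfl; simp at hθ) he0)) _
    (h2 f h.right h.right_ne_zero)
  rw [B_smul_left, h.pair, mul_one] at h4
  exact hθ h4

theorem lb_four' (hP : P.ND) (h4 : finrank F V = 4)
    (hK : ∀ g ∈ K, g ∈ P.EG → ∀ y ∈ Y, g • y ∈ Y)
    (hB : ∀ x ∈ Y, ∀ y ∈ Y, frobq hF (P.B x y) = P.B x y)
    (hs : ∀ a, frobq hF a = a → ∀ y ∈ Y, a • y ∈ Y) (hY : q ^ 3 ≤ Nat.card Y)
    (hc : K.relIndex P.EG < q ^ 5) : ∀ x ∈ Y, ∀ y ∈ Y, P.B x y = 0 := by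
  have : FiniteDimensional F V := Module.Finite.of_finite
  have hq := two_le_q hF
  have hY4 : Nat.card Y ≤ q ^ 4 := by
    have h1 := lb_sq_le hP hB
    rw [Module.natCard_eq_pow_finrank (K := F) (V := V), h4, u_card hF,
      show (q ^ 2) ^ 4 = q ^ 4 * q ^ 4 by ring] at h1
    exact Nat.mul_self_le_mul_self_iff.1 h1
  obtain ⟨x, hx, hx0, hxs⟩ := lb_iso hY hB hs
  by_cases h1 : ∃ y ∈ Y, P.B y x ≠ 0
  · exfalso
    obtain ⟨y, hy, hyx⟩ := h1
    obtain ⟨f, h⟩ := hP.exists_hyp hxs hx0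
    have k1 := index_orbit₂ K P.EG x y (O := P.sing0 Set.univ) (T := {z | z ∈ Y ∧ z ≠ 0})
      (O' := {z | P.B z x = P.B y x ∧ P.QEq z (P.Q y)})
      (T' := {z | z ∈ Y ∧ (P.B.flip x).toAddMonoidHom z = P.B y x})
      (fun z hz => u_vTrans hP (by omega) x z hxs hz.2.2 hx0 hz.2.1) (Set.toFinite _)
      (fun g hg hg' => ⟨hK g hg hg' x hx, act_ne_zero g hx0⟩) (fun z hz => by
        obtain ⟨u, hu, huz⟩ := exists_U_smul hxs hyx hz.1 (QEq.self y) hz.2
        exact ⟨u, h.U_le_EG hu, hu.1, huz⟩) (Set.toFinite _)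
      fun g hg hg' hgx => ⟨hK g hg hg' y hy, by
        change P.B (g • y) x = _
        conv_lhs => rw [← hgx, B_smul_smul]⟩
    rw [u4_sing0 hP h4, ← Nat.card_coe_set_eq {z | P.B z x = P.B y x ∧ P.QEq z (P.Q y)},
      show Nat.card {z | P.B z x = P.B y x ∧ P.QEq z (P.Q y)} = _ from h.card_level hyx _,
      ib_card_U h4 h] at k1
    have k2 := card_eq_ker_mul_map Y (P.B.flip x).toAddMonoidHom
    have k3 : q ≤ Nat.card (Y.map (P.B.flip x).toAddMonoidHom) := by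
      refine (card_fixA hF).ge.trans (AddSubgroup.card_le_of_le fun b hb => ?_)
      exact ⟨_, hs (b / P.B y x) (by rw [map_div₀, hb, hB y hy x hx]) y hy, by simp [hyx]⟩
    have k4 := (Nat.mul_le_mul_right q (ncard_fiber_le Y (P.B.flip x).toAddMonoidHom
      (P.B y x))).trans ((Nat.mul_le_mul_left _ k3).trans (k2.ge.trans hY4))
    replace k4 := Nat.le_of_mul_le_mul_right (c := q) (k4.trans (pow_succ q 3).le) (by omega)
    have k5 := ncard_ne_zero_addSubgroup Y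
    have k6 := k1.trans (Nat.mul_le_mul (Nat.mul_le_mul hc.le (show _ ≤ q ^ 4 - 1 by omega)) k4)
    have k7 : 1 < q ^ 4 := Nat.one_lt_pow (by omega) (by omega)
    have k8 : 0 < (q ^ 4 - 1) * q ^ 5 := Nat.mul_pos (by omega) (by positivity)
    norm_num at k6
    nlinarith
  push Not at h1
  set S := {a | a ∈ Y ∧ ∀ y ∈ Y, P.B y a = 0} with hS
  have hR : P.TotSing (Submodule.span F S) :=
    totSing_span (fun a ha => u_sing_iff.2 (ha.2 a ha.1)) fun a ha b hb => hb.2 a ha.1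
  have h2 := hR.two_mul_finrank_le hP
  have h3 : finrank F (Submodule.span F S) ≠ 0 := fun h0 => hx0 (by
    have : x ∈ Submodule.span F S := Submodule.subset_span ⟨hx, h1⟩
    rwa [Submodule.finrank_eq_zero.1 h0, Submodule.mem_bot] at this)
  by_cases h5 : finrank F (Submodule.span F S) = 1
  · obtain ⟨v, -, hv0, hv⟩ := exists_pst_of_finrank_one (H := K ⊓ P.EG) (fun g hg =>
      span_stab (S := S) fun a ha => Submodule.subset_span ⟨hK g hg.1 hg.2 a ha.1, fun y hy => by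
        rw [B_act_right]
        exact ha.2 _ (hK _ (inv_mem hg.1) (inv_mem hg.2) y hy)⟩) h5
    have := (ib_pst hP (d := 2) h4 (by omega) hv0).trans (relIndex_anti_left _ hv)
    have : q * (q ^ 2 * q ^ 2) = q ^ 5 := by ring
    omega
  have h6 : ∀ y ∈ Y, y ∈ Submodule.span F S := fun y hy => by
    rw [← hR.perp_eq hP (by omega), perp_span]
    exact fun a ha => ha.2 y hy
  exact fun a ha b hb => hR.perp a (h6 a ha) b (h6 b hb)

theorem lb_four (hP : P.ND) (h4 : finrank F V = 4)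
    (hK : ∀ g ∈ K, g ∈ P.EG → ∀ y ∈ Y, g • y ∈ Y)
    (hB : ∀ x ∈ Y, ∀ y ∈ Y, frobq hF (P.B x y) = P.B x y) (hY : q ^ 3 ≤ Nat.card Y)
    (hc : K.relIndex P.EG < q ^ 5) : ∀ x ∈ Y, ∀ y ∈ Y, P.B x y = 0 := by
  let Z : AddSubgroup V :=
    { carrier := {w | ∀ z, (∀ y ∈ Y, frobq hF (P.B y z) = P.B y z) → frobq hF (P.B w z) = P.B w z}
      zero_mem' := fun z _ => by simp
      add_mem' := fun ha hb z hz => by
        rw [map_add, LinearMap.add_apply, map_add, ha z hz, hb z hz]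
      neg_mem' := fun ha z hz => by rw [map_neg, LinearMap.neg_apply, map_neg, ha z hz] }
  have h1 : Y ≤ Z := fun y hy z hz => hz y hy
  have h2 := lb_four' hP h4 (K := K) (Y := Z) (fun g hg hg' w hw z hz => by
      rw [B_act_left]
      exact hw _ fun y hy => by rw [← B_act_left]; exact hz _ (hK g hg hg' y hy))
    (fun w hw w' hw' => hw w' fun y hy => by
      have := hw' y fun y' hy' => hB y' hy' y hy
      rw [u_swap w' y, this, this])
    (fun a ha w hw z hz => by rw [B_smul_left, map_mul, ha, hw z hz])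
    (hY.trans (AddSubgroup.card_le_of_le h1)) hc
  exact fun x hx y hy => h2 x (h1 hx) y (h1 hy)

end Aux

theorem lb_loc (hP : P.ND) {d : ℕ} (hd : finrank F V = d + 2) (h0 : NoTv H)
    (hlt : H.relIndex P.EG < q ^ (2 * d + 2)) {e f : V} (h : P.Hyp e f) :
    ((P.Kc H e).comap h.emb.ext).relIndex (P.res (P.perp {e, f})).EG < q * Nat.card (h.Yv H) ∧
      Nat.card (h.Yv H) ≤ q ^ d := by
  have hq := two_le_q hF
  have hD := h0.Dv_eq_bot h.left h.left_ne_zero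
  obtain ⟨j, hj⟩ := exists_mul_card_eq (h.Yv_le H)
  obtain ⟨γ, hγ, hγ0⟩ := u_exists_lam hF
  have h4 := h.card_Yv_sq_le hP u_hmin (H := H) fun e1 => hγ0 (by simpa [hD] using e1 hγ)
  have h1 := h.relIndex_U H (i := q) (j := j)
    (by rw [hD, AddSubgroup.card_bot, mul_one, card_lam]) hj
  change j * _ = Nat.card (P.perp {e, f}) at hj
  rw [h.u_card_perp hd] at hj h4
  refine ⟨?_, Nat.mul_self_le_mul_self_iff.1 h4⟩
  have h2 := (Nat.mul_le_mul_right (j * q) ((h.relIndex_comap_le (P.Kc H e)).trans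
    (relIndex_mono_right _ (Lv_le_Gam e f)))).trans_lt
    ((h1 ▸ h.relIndex_Gam H).ge.trans_lt ((relIndex_mono_right _ (Gam_le_EG e)).trans_lt hlt))
  rw [show q ^ (2 * d + 2) = q ^ d * q ^ d * q * q by ring, ← hj] at h2
  exact lt_of_mul_lt_mul_right (a := j * q) (by linarith) (Nat.zero_le _)

theorem lb_type (hP : P.ND) (hn : finrank F V = n) (h6 : 6 ≤ n) (h0 : NoTv H)
    (hlt : H.relIndex P.EG < q ^ (2 * n - 2)) {e a : V} (he0 : e ≠ 0) (ha : a ∈ Av H e)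
    (ha0 : a ∉ F ∙ e) : n = 6 ∧ CTi H e ∧ q ^ 5 < (Av H e).ncard := by
  have : FiniteDimensional F V := Module.Finite.of_finite
  have hq := two_le_q hF
  obtain ⟨f, h⟩ := hP.exists_hyp (Av.sing ha) he0
  obtain ⟨d, rfl⟩ : ∃ d, n = d + 2 + 2 := ⟨n - 4, by omega⟩
  obtain ⟨h1, h2⟩ := lb_loc hP hn h0 (by convert hlt using 2; omega) h
  have h3 := h.finrank_perp
  have hB : ∀ x ∈ (h.Yv H).comap (P.perp {e, f}).subtype.toAddMonoidHom,
      ∀ y ∈ (h.Yv H).comap (P.perp {e, f}).subtype.toAddMonoidHom,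
      frobq hF ((P.res (P.perp {e, f})).B x y) = (P.res (P.perp {e, f})).B x y :=
    fun x hx y hy => Av.fixed (H := H) (u := e) (a := x) (b := y) he0 (h0 e) hx.1 hy.1
  have h4 := lb_not_le (h.emb.nd hP) (by omega) (h.comap_Yv_stab H) hB fun hb => by
    rw [← AddSubgroup.card_eq_one, h.card_comap, AddSubgroup.card_eq_one, h.Yv_eq_bot_iff] at hb
    obtain ⟨t, rfl⟩ := hb a ha
    exact ha0 (Submodule.smul_mem _ _ (Submodule.mem_span_singleton_self e))
  obtain rfl : d = 2 := by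
    by_contra hd
    have h5 := (ib_min (h.emb.nd hP) (d := d) (by omega) (by omega) h4).trans_lt
      (h1.trans_le (Nat.mul_le_mul_left _ h2))
    rw [← pow_add] at h5
    have := (Nat.pow_lt_pow_iff_right (by omega)).1 (lt_of_mul_lt_mul_left h5 (Nat.zero_le _))
    omega
  have h5 := (u4_min_index (h.emb.nd hP) (by omega) h4).trans_lt h1
  have h7 : q ^ 3 < Nat.card (h.Yv H) := lt_of_mul_lt_mul_left (a := q) (by nlinarith) (Nat.zero_le _)
  have h8 := lb_four (h.emb.nd hP) (by omega) (h.comap_Yv_stab H) hB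
    (by rw [h.card_comap]; exact h7.le) (h1.trans_le ((Nat.mul_le_mul_left _ h2).trans_eq (by ring)))
  refine ⟨rfl, fun x hx y hy => ?_, ?_⟩
  · have := h8 ⟨_, h.hproj_mem x⟩ (h.hproj_mem_Yv hx) ⟨_, h.hproj_mem y⟩ (h.hproj_mem_Yv hy)
    rw [res_B, Hyp.B_hproj_right _ (h.hproj_mem y)] at this
    rw [Hyp.eq_of_perp (f := f) (Av.perp hy), map_add, this, B_smul_right, Av.perp hx]
    simp
  · refine lt_of_lt_of_le (b := Nat.card (h.Yv H × F)) ?_ ?_
    · rw [Nat.card_prod, u_card hF, show q ^ 5 = q ^ 3 * q ^ 2 by ring]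
      exact Nat.mul_lt_mul_of_pos_right h7 (by positivity)
    rw [← Nat.card_coe_set_eq]
    refine Nat.card_le_card_of_injective
      (fun p => ⟨p.1.1 + p.2 • e, Av.add p.1.2.1 (Av.smul_self h.left _)⟩) ?_
    rintro ⟨⟨a, ha⟩, s⟩ ⟨⟨b, hb⟩, t⟩ hab
    have h1 : a + s • e = b + t • e := congrArg Subtype.val hab
    have h3 := congrArg (P.B · f) h1
    simp only [map_add, LinearMap.add_apply, B_smul_left, h.pair, (mem_perp_pair.1 ha.2).2,
      (mem_perp_pair.1 hb.2).2, zero_add, mul_one] at h3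
    subst h3
    obtain rfl := add_right_cancel h1
    rfl

theorem lb_line (hP : P.ND) (hn : finrank F V = 6) {e a : V} (he0 : e ≠ 0) (ha : a ∈ Av H e)
    (ha0 : a ∉ F ∙ e) (hC : CTi H e) (h5 : q ^ 5 < (Av H e).ncard) {ℓ : Submodule F V}
    (h2 : finrank F ℓ = 2) (he : e ∈ ℓ) (ha' : a ∈ ℓ) : q ^ 3 < (Av H e ∩ ℓ).ncard := by
  have : FiniteDimensional F V := Module.Finite.of_finite
  have hq := two_le_q hF
  have hs := Av.sing ha
  have hZ : P.TotSing (Submodule.span F (Av H e)) :=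
    totSing_span (fun a ha => u_sing_iff.2 (hC a ha a ha)) hC
  have h1 := hZ.two_mul_finrank_le hP
  have h3 : ℓ ≤ Submodule.span F (Av H e) := by
    rw [← bl_span h2 he he0 ha' ha0]
    refine Submodule.span_mono ?_
    rintro _ (rfl | rfl)
    exacts [by simpa using Av.smul_self (H := H) hs 1, ha]
  have hk : ℓ.mkQ.toAddMonoidHom.ker = ℓ.toAddSubgroup := by
    ext x; simp
  have h4 := card_eq_ker_mul_map (Submodule.span F (Av H e)).toAddSubgroup ℓ.mkQ.toAddMonoidHom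
  have : Finite (V ⧸ ℓ) := Finite.of_surjective _ ℓ.mkQ_surjective
  have h6 := card_le_ker_mul (P.vecs H hs) ℓ.mkQ.toAddMonoidHom
    (Z := (Submodule.span F (Av H e)).toAddSubgroup.map ℓ.mkQ.toAddMonoidHom)
    fun y hy => ⟨y, Submodule.subset_span hy, rfl⟩
  rw [hk, inf_eq_right.2 (show ℓ.toAddSubgroup ≤ _ from h3),
    show Nat.card ℓ.toAddSubgroup = _ from card_submodule ℓ,
    show Nat.card (Submodule.span F (Av H e)).toAddSubgroup = _ from card_submodule _, h2,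
    u_card hF] at h4
  rw [hk, show Nat.card (P.vecs H hs) = (Av H e).ncard from Nat.card_coe_set_eq _,
    show Nat.card (P.vecs H hs ⊓ ℓ.toAddSubgroup : AddSubgroup V) = (Av H e ∩ ℓ).ncard from
      Nat.card_coe_set_eq _] at h6
  have h7 := h4.ge.trans (Nat.pow_le_pow_right (by positivity) (show _ ≤ 3 by omega))
  rw [pow_succ _ 2] at h7
  have h8 := h5.trans_le (h6.trans (Nat.mul_le_mul_left _
    (Nat.le_of_mul_le_mul_left h7 (by positivity))))
  rw [show q ^ 5 = q ^ 3 * q ^ 2 by ring] at h8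
  exact lt_of_mul_lt_mul_right h8 (Nat.zero_le _)

theorem lb_cocycle {e f : V} (h : P.Hyp e f) (hR : ∀ u ∈ P.U e, u ∈ H → u = 1)
    {g k : P.Iso} (hg : g ∈ P.Lv e f) (hk : k ∈ P.Lv e f) (hgk : g * k = k * g) {u u' : V}
    (hu : u ∈ P.perp {e, f}) (hu' : u' ∈ P.perp {e, f}) {c c' : F} (hc : P.EOk e u c)
    (hc' : P.EOk e u' c') (h1 : P.eich e u c * g ∈ H) (h2 : P.eich e u' c' * k ∈ H) :
    u + g • u' = u' + k • u := by
  have k1 := hc'.conj_eich g
  have k2 := hc.conj_eich k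
  have o1 := hc'.act g
  have o2 := hc.act k
  rw [hg.1.1] at k1 o1
  rw [hk.1.1] at k2 o2
  have k3 := hR (P.eich e u c * P.eich e (g • u') c' *
    (P.eich e u' c' * P.eich e (k • u) c)⁻¹) (mul_mem (mul_mem (eich_mem_U _ _ _)
      (eich_mem_U _ _ _)) (inv_mem (mul_mem (eich_mem_U _ _ _) (eich_mem_U _ _ _)))) (by
      rw [← k1, ← k2, grp_cocycle hgk]
      exact mul_mem (mul_mem h1 h2) (inv_mem (mul_mem h2 h1)))
  rw [mul_inv_eq_one, hc.eich_mul o1, hc'.eich_mul o2] at k3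
  exact (h.eich_inj (hc.add o1) (mem_perp_pair.1 (add_mem hu (Lv_smul_mem hg hu'))).2 (hc'.add o2)
    (mem_perp_pair.1 (add_mem hu' (Lv_smul_mem hk hu))).2 k3).1

/-- if all transvections of `W` lift to `H` then `H` meets some `Q_x` -/
theorem lb_lift (hP : P.ND) (h6 : 6 ≤ finrank F V) {e f : V} (h : P.Hyp e f) {c : F}
    (hc : c ∈ (uFP hF).Λ) (hc0 : c ≠ 0)
    (hl : ∀ y ∈ P.perp {e, f}, P.Sing y → P.eich y 0 c ∈ P.Kc H e) : ¬ NoQ H := fun hQ => by
  have : FiniteDimensional F V := Module.Finite.of_finite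
  have h1 := h.finrank_perp
  obtain ⟨y, hy, hy0, hys⟩ := u_iso (P := P) (P.perp {e, f}) (by omega)
  obtain ⟨y', hy', h'⟩ := h.exists_hyp_perp hP hy hy0 hys
  obtain ⟨a, ha, d, hd, hH⟩ := h.exists_of_mem_Kc (hl y hy hys)
  have key : ∀ z ∈ P.perp {e, f}, P.Sing z → P.B z y = 0 → z ∉ F ∙ y → P.B a z = 0 := by
    intro z hz hzs hzy hz0
    obtain ⟨b, hb, d', hd', hH'⟩ := h.exists_of_mem_Kc (hl z hz hzs)
    have k1 := lb_cocycle h (fun u hu hu' => hQ e h.left h.left_ne_zero u hu' hu)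
      (eich_mem_Lv hy (zero_mem _) (EOk.lam hys hc)) (eich_mem_Lv hz (zero_mem _) (EOk.lam hzs hc))
      (transvec_commute hzs hc ((EOk.lam hys hc).eich_smul_of_perp₂ hzy (by simp)))
      ha hb hd hd' hH hH'
    rw [tv_smul hys hc, tv_smul hzs hc] at k1
    by_contra hne
    refine hz0 ((Submodule.smul_mem_iff _ (mul_ne_zero hc0 hne)).1
      (Submodule.mem_span_singleton.2 ⟨c * P.B b y, ?_⟩))
    linear_combination (norm := module) -k1
  have h2 := (h'.res hy hy').finrank_perp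
  obtain ⟨z, hz, hz0, hzs⟩ := u_iso (P := P.res (P.perp {e, f}))
    ((P.res (P.perp {e, f})).perp {⟨y, hy⟩, ⟨y', hy'⟩}) (by omega)
  have hz' : P.B z y = 0 ∧ P.B z y' = 0 := (mem_perp_pair (P := P.res _)).1 hz
  have hzy : (z : V) ∉ F ∙ y :=
    h'.notMem_span_left (mem_perp_pair.2 hz') fun e1 => hz0 (Subtype.ext e1)
  have h3 : P.B a y = 0 := by
    have k1 := key _ (add_mem z.2 hy) (Sing.add hzs hys hz'.1) (by simp [hz'.1, hys.B_self])
      fun e1 => hzy (by simpa using sub_mem e1 (Submodule.mem_span_singleton_self y))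
    rwa [map_add, key z z.2 hzs hz'.1 hzy, zero_add] at k1
  obtain ⟨s, rfl⟩ : ∃ s : F, s • y = a := Submodule.mem_span_singleton.1 (by_contra fun e1 => by
    obtain ⟨w, hw, hw', hws, hw0⟩ := h.exists_sing_perp₂ hP h' hy hy' ⟨z, hz, hz0, hzs⟩ ha h3 e1
    exact hw0 (key w hw hws (mem_perp_pair.1 hw').1
      (h'.notMem_span_left hw' (by rintro rfl; simp at hw0))))
  have hy1 := h.notMem_span_left hy hy0
  obtain ⟨x, hx, hx0, hU⟩ := bl_one' hP
    (EOk.totSing_span (⟨h.left, (mem_perp_pair.1 hy).1, hys⟩ : P.EOk e y 0))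
    (finrank_span_pair (li_of_notMem h.left_ne_zero hy1))
    (g := P.eich e (s • y) d * P.eich y 0 c) fun v hv => by
      rw [perp_span, mem_perp_pair] at hv
      rw [mul_smul, (EOk.lam hys hc).eich_smul_of_perp₂ hv.2 (by simp),
        hd.eich_smul_of_perp₂ hv.1 (by simp [hv.2])]
  have h4 := hQ x ((EOk.totSing_span (⟨h.left, (mem_perp_pair.1 hy).1, hys⟩ : P.EOk e y 0)).sing
    x hx) hx0 _ hH hU
  obtain ⟨t, ht⟩ := ((mul_mem_cancel_left (eich_mem_U e (s • y) d)).1 (h4 ▸ one_mem _)).2 y'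
    (mem_perp_pair.1 hy').1
  rw [tv_smul hys hc, h'.pair', uFP_eps, mul_one] at ht
  refine hy1 ((Submodule.smul_mem_iff _ hc0).1 (Submodule.mem_span_singleton.2 ⟨-t, ?_⟩))
  linear_combination (norm := module) ht

theorem lb_exists (hP : P.ND) (hn : finrank F V = n) (h6 : 6 ≤ n) (h0 : NoTv H)
    (hlt : H.relIndex P.EG < q ^ (2 * n - 2)) : ∃ e a, e ≠ 0 ∧ a ∈ Av H e ∧ a ∉ F ∙ e := by
  have : FiniteDimensional F V := Module.Finite.of_finite
  have hq := two_le_q hF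
  by_contra hc
  push Not at hc
  have hY : ∀ {e f : V} (h : P.Hyp e f), h.Yv H = ⊥ := fun h => h.Yv_eq_bot_iff.2 fun w hw => by
    obtain ⟨a, ha⟩ := Submodule.mem_span_singleton.1 (hc _ w h.left_ne_zero hw)
    exact ⟨a, ha.symm⟩
  obtain ⟨e, he0, he⟩ := u_exists_sing P (by omega)
  obtain ⟨f, h⟩ := hP.exists_hyp he he0
  obtain ⟨c, hc, hc0⟩ := u_exists_lam hF
  obtain ⟨d, rfl⟩ : ∃ d, n = d + 1 + 2 := ⟨n - 3, by omega⟩
  have h1 := (lb_loc hP hn h0 (by convert hlt using 2; omega) h).1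
  have h3 := h.finrank_perp
  rw [hY h, AddSubgroup.card_bot, mul_one] at h1
  have h2 : (P.res (P.perp {e, f})).EG ≤ (P.Kc H e).comap h.emb.ext := by_contra fun h4 => by
    have := u_weak d (by omega) _ _ (h.emb.nd hP) (by omega) _ h4
    have : 0 < q ^ d := by positivity
    nlinarith
  refine lb_lift (H := H) hP (by omega) h hc hc0 (fun y hy hys => ?_) fun u hu hu0 g hg hU => ?_
  · have := h2 (eich_mem_EG ⟨y, hy⟩ 0 c)
    rwa [Subgroup.mem_comap, h.emb.ext_eich (EOk.lam (e := ⟨y, hy⟩) hys hc), map_zero] at this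
  · obtain ⟨f', h'⟩ := hP.exists_hyp hu hu0
    have := h'.card_inf_U H
    rw [hY h', h0.Dv_eq_bot hu hu0, AddSubgroup.card_bot, AddSubgroup.card_bot, mul_one,
      Subgroup.card_eq_one] at this
    exact Subgroup.mem_bot.1 (this.le ⟨hg, hU⟩)

/-- a subgroup without transvections has index at least `q ^ (2n - 2)` -/
theorem lb_pow (hP : P.ND) (hn : finrank F V = n) (h6 : 6 ≤ n) (h0 : NoTv H) :
    q ^ (2 * n - 2) ≤ H.relIndex P.EG := by
  have : FiniteDimensional F V := Module.Finite.of_finite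
  by_contra hlt
  replace hlt := not_le.1 hlt
  obtain ⟨e, a, he0, ha, ha0⟩ := lb_exists hP hn h6 h0 hlt
  obtain ⟨rfl, h1, h2⟩ := lb_type hP hn h6 h0 hlt he0 ha ha0
  have hℓ := EOk.totSing_span (⟨Av.sing ha, Av.perp ha, u_sing_iff.2 (h1 a ha a ha)⟩ : P.EOk e a 0)
  have hr := finrank_span_pair (li_of_notMem he0 ha0)
  have he : e ∈ Submodule.span F {e, a} := Submodule.subset_span (by simp)
  have h3 := bl_hit hP h0 _ hℓ hr he he0
    (lb_line hP hn he0 ha ha0 h1 h2 hr he (Submodule.subset_span (by simp)))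
  refine bl_big hP h0 _ hℓ hr fun x hx hx0 => ?_
  obtain ⟨b, hb, hb0⟩ := h3 x hx hx0
  obtain ⟨-, h4, h5⟩ := lb_type hP hn h6 h0 hlt hx0 hb.1 hb0
  exact lb_line hP hn hx0 hb.1 hb0 h4 h5 hr hx hb.2

theorem lb_Iq {q n : ℕ} (hq : 2 ≤ q) (h6 : 6 ≤ n) : Iq q n + (q + 1) < q ^ (2 * n - 2) * (q + 1) := by
  obtain ⟨m, rfl⟩ : ∃ m, n = m + 1 := ⟨n - 1, by omega⟩
  have h1 : q ^ 2 ≤ q ^ m := Nat.pow_le_pow_right (by omega) (by omega)
  rw [show 2 * (m + 1) - 2 = m + m by omega, pow_add, Iq, Nat.add_sub_cancel, pow_succ]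
  generalize q ^ m = a at *
  have h2 : 1 ≤ a := by nlinarith
  have h3 : 1 ≤ a * q := by nlinarith
  split_ifs
  · zify [h3] at *; nlinarith
  · zify [h2] at *; nlinarith

theorem lb (hP : P.ND) (hn : finrank F V = n) (h6 : 6 ≤ n) (_hq : 3 ≤ q) (h0 : NoTv H) :
    Iq q n + (q + 1) < H.relIndex P.EG * (q + 1) :=
  (lb_Iq (two_le_q hF) h6).trans_le (Nat.mul_le_mul_right _ (lb_pow hP hn h6 h0))

end Cfsg.Agent.UR
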