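import Cfsg.Agent.UR.B0c
import Cfsg.Agent.UR.LB

/-! Without transvections the stabilizer is transitive on isotropic points. -/

set_option autoImplicit false

namespace Cfsg.Agent.UR

open Module MulAction Cfsg.Agent.Forms Cfsg.Agent.Polar Cfsg.Agent.Polar.PQ

variable {F : Type*} [Field F] [Fintype F] {q : ℕ} {hF : Fintype.card F = q ^ 2}
variable {V : Type*} [AddCommGroup V] [Module F V] [Finite V] {P : PQ (uFP hF) V} {n : ℕ}
variable {X : Type*} [Finite X] [MulAction P.EG X] {x : X}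

theorem b0 (hP : P.ND) (hn : finrank F V = n) (h6 : 6 ≤ n) (hq : 3 ≤ q) (R : Rk3 P x) (h2 : Pt2 (Hx P x))
    (h0 : NoTv (Hx P x)) : PtTr (Hx P x) :=
  letI := Fintype.ofFinite X
  b0_of hP hn h6 hq R h2 h0 (R.index ▸ lb hP hn h6 hq h0)

end Cfsg.Agent.UR
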