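import Cfsg.Agent.UR.Lift
import Cfsg.Agent.UR.IB
import Cfsg.Agent.UR.UB

/-! Rank three actions of unitary groups: the final count when transvections lift. -/

set_option autoImplicit false

namespace Cfsg.Agent.UR

open Module MulAction Cfsg.Agent.Forms Cfsg.Agent.Polar Cfsg.Agent.Polar.PQ

theorem n2f_Iq_le {q n : ℕ} (hq : 1 ≤ q) : Iq q (n + 1) ≤ q ^ (n + 1) * q ^ n + q ^ (n + 1) := by
  have h1 : q ^ n ≤ q ^ (n + 1) := Nat.pow_le_pow_right hq (by omega)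
  unfold Iq
  split_ifs
  · rw [Nat.add_sub_cancel, ← Nat.mul_succ]
    exact Nat.mul_le_mul_right _ (Nat.sub_le _ _)
  · rw [Nat.add_sub_cancel]
    calc _ ≤ (q ^ (n + 1) + 1) * q ^ n := Nat.mul_le_mul_left _ (Nat.sub_le _ _)
      _ ≤ _ := by rw [add_mul, one_mul]; omega

theorem n2f_le_Iq {q n : ℕ} (hq : 2 ≤ q) (hn : 1 ≤ n) : q ^ n * q ^ n ≤ Iq q (n + 1) := by
  obtain ⟨m, rfl⟩ : ∃ m, n = m + 1 := ⟨n - 1, by omega⟩
  have h1 : 1 ≤ q ^ m := Nat.one_le_pow _ _ (by omega)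
  have h2 : 2 ≤ q ^ (m + 1) := by rw [pow_succ]; nlinarith
  have h3 : 2 * q ^ (m + 1) ≤ q ^ (m + 1 + 1) := by rw [pow_succ _ (m + 1)]; nlinarith
  unfold Iq
  rw [Nat.add_sub_cancel]
  obtain ⟨a, ha⟩ : ∃ a, q ^ (m + 1) = a + 2 := ⟨q ^ (m + 1) - 2, by omega⟩
  obtain ⟨b, hb⟩ : ∃ b, q ^ (m + 1 + 1) = b + 1 := ⟨q ^ (m + 1 + 1) - 1, by omega⟩
  rw [ha, hb] at h3 ⊢
  split_ifs
  · rw [Nat.add_sub_cancel]; nlinarith
  · rw [show a + 2 - 1 = a + 1 from rfl]; nlinarith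

theorem n2f_ar {q A I J c v : ℕ} (hq : 3 ≤ q) (hA : q ^ 5 ≤ A) (hI : q ^ 3 * I ≤ (q ^ 5 + 1) * A)
    (hJ : q ^ 6 ≤ J) (h1 : v * ((q + 1) ^ 2 * (q - 1)) ≤ (q + 1) ^ 2 * (q - 1) + (q ^ 2 - 1) * I + q * I * J)
    (h2 : A * c ≤ v) (h3 : (q ^ 2 - 1) * J ≤ q ^ 2 * c) : False := by
  obtain ⟨r, rfl⟩ : ∃ r, q = r + 3 := ⟨q - 3, by omega⟩
  rw [show (r + 3) ^ 2 - 1 = (r + 4) * (r + 2) by rw [Nat.sub_eq_iff_eq_add (by nlinarith)]; ring] at h1 h3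
  rw [show r + 3 - 1 = r + 2 from rfl] at h1
  set q := r + 3 with hr
  have hq5 : 1 ≤ q ^ 5 := Nat.one_le_pow _ _ (by omega)
  have hJ1 : 1 ≤ J := le_trans (Nat.one_le_pow _ _ (by omega)) hJ
  have k1 : A * ((r + 4) * (r + 2) * J) * ((q + 1) ^ 2 * (r + 2)) ≤
      q ^ 2 * (v * ((q + 1) ^ 2 * (r + 2))) := by
    calc _ ≤ A * (q ^ 2 * c) * ((q + 1) ^ 2 * (r + 2)) := by gcongr
      _ = q ^ 2 * (A * c * ((q + 1) ^ 2 * (r + 2))) := by ring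
      _ ≤ _ := by gcongr
  have k2 : q ^ 2 * ((q + 1) ^ 2 * (r + 2)) ≤ 2 * (A * J) := by
    calc _ ≤ 2 * q ^ 5 := by
          rw [hr]; ring_nf; nlinarith [Nat.zero_le (r ^ 5), Nat.zero_le (r ^ 4), Nat.zero_le (r ^ 3), Nat.zero_le (r ^ 2)]
      _ ≤ 2 * (A * J) := by nlinarith
  have k3 : q ^ 2 * ((r + 4) * (r + 2) * I) ≤ 2 * (A * J) := by
    calc _ ≤ q ^ 2 * (q ^ 2 * I) := by gcongr; rw [hr]; nlinarith
      _ = q * (q ^ 3 * I) := by ring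
      _ ≤ q * ((q ^ 5 + q ^ 5) * A) := Nat.mul_le_mul_left _ (hI.trans (by gcongr))
      _ = 2 * (A * q ^ 6) := by ring
      _ ≤ _ := by gcongr
  have k4 : q ^ 2 * (q * I * J) ≤ (q ^ 5 + 1) * (A * J) := by
    calc _ = q ^ 3 * I * J := by ring
      _ ≤ (q ^ 5 + 1) * A * J := by gcongr
      _ = _ := by ring
  have k5 : (q ^ 5 + 6) * (A * J) ≤ A * ((r + 4) * (r + 2) * J) * ((q + 1) ^ 2 * (r + 2)) := by
    calc _ ≤ ((r + 4) * (r + 2) * ((q + 1) ^ 2 * (r + 2))) * (A * J) := by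
          gcongr; rw [hr]; ring_nf
          nlinarith [Nat.zero_le (r ^ 5), Nat.zero_le (r ^ 4), Nat.zero_le (r ^ 3), Nat.zero_le (r ^ 2)]
      _ = _ := by ring
  have k6 := Nat.mul_le_mul_left (q ^ 2) h1
  have k7 : 1 ≤ A * J := Nat.mul_pos (by omega) hJ1
  rw [mul_add, mul_add] at k6
  nlinarith

variable {F : Type*} [Field F] [Fintype F] {q : ℕ} {hF : Fintype.card F = q ^ 2}
  {V : Type*} [AddCommGroup V] [Module F V] [Finite V] {P : PQ (uFP hF) V} {n : ℕ}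
  {X : Type*} [Finite X] [MulAction P.EG X] {x : X}

theorem n2_fin (hP : P.ND) (hn : finrank F V = n) (h6 : 6 ≤ n) (hq : 3 ≤ q) (R : Rk3 P x)
    (hQ : NoQ (Hx P x)) (hT : PtTr (Hx P x)) {e f : V} (h : P.Hyp e f) {c : F}
    (hc : c ∈ (uFP hF).Λ) (c0 : c ≠ 0) (ha : q * (Tc (Hx P x) e f c).ncard < Iq q (n - 2))
    (hb : (q ^ 2 - 1) * Iq q (n - 2) ≤ q ^ 2 * (P.Kc (Hx P x) e).relIndex (P.Lv e f)) : False := by
  have h1 := ub hP hn h6 hq R hQ fun u hu u0 => by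
    rw [ncard_resT_eq hT hu u0 h.left h.left_ne_zero, mul_left_comm]
    exact lt_of_le_of_lt (Nat.mul_le_mul_left _ (card_resT h hQ hc c0)) ha
  have h2 := ib hP hn R hQ h
  obtain ⟨m, rfl⟩ : ∃ m, n = m + 6 := ⟨n - 6, by omega⟩
  refine n2f_ar hq (Nat.pow_le_pow_right (by omega) (by omega)) ?_ ?_ h1 h2 hb
  · calc _ ≤ q ^ 3 * (q ^ (m + 5 + 1) * q ^ (m + 5) + q ^ (m + 5 + 1)) :=
          Nat.mul_le_mul_left _ (n2f_Iq_le (by omega))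
      _ = q ^ 5 * q ^ (2 * m + 9) + q ^ (m + 9) := by ring
      _ ≤ q ^ 5 * q ^ (2 * m + 9) + q ^ (2 * m + 9) := by gcongr <;> omega
      _ = _ := by rw [show 2 * (m + 6) - 3 = 2 * m + 9 by omega]; ring
  · refine le_trans ?_ (n2f_le_Iq (n := m + 3) (by omega) (by omega))
    rw [← pow_add]
    exact Nat.pow_le_pow_right (by omega) (by omega)

end Cfsg.Agent.UR
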