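import Cfsg.Agent.UR.N2a0
import Cfsg.Agent.UR.Lift

/-! Rank three actions of unitary groups: mutually orthogonal centres. -/

set_option autoImplicit false
set_option linter.unusedSectionVars false

namespace Cfsg.Agent.UR

open Module MulAction Submodule Cfsg.Agent.Forms Cfsg.Agent.Polar Cfsg.Agent.Polar.PQ

variable {F : Type*} [Field F] [Fintype F] {q : ℕ} {hF : Fintype.card F = q ^ 2}
variable {V : Type*} [AddCommGroup V] [Module F V] [Finite V] {P : PQ (uFP hF) V} {H : Subgroup P.Iso}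

/-- the hypotheses `ha`, `hb` of `n2_fin` for mutually orthogonal centres -/
theorem n2a_ab (hP : P.ND) {n : ℕ} (hn : finrank F V = n) (h6 : 6 ≤ n) (hQ : NoQ H) {e f w b : V} {c : F}
    (h : P.Hyp e f) (hl : Lf H e f w c b) (hp : ∀ w1 ∈ Tc H e f c, ∀ w2 ∈ Tc H e f c, P.B w1 w2 = 0)
    (hs : n = 6 → P.B b w = 0 → Tc H e f c ⊆ F ∙ w) :
    q * (Tc H e f c).ncard < Iq q (n - 2) ∧
      (q ^ 2 - 1) * Iq q (n - 2) ≤ q ^ 2 * (P.Kc H e).relIndex (P.Lv e f) :=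
  n2a_core hP hn h6 h hl.sw hl.w0 hl.w_mem hl.b_mem (hl.not_mem hP h hQ)
    (fun _ hx => ⟨(Tc_sub hx).1, (Tc_sub hx).2.1⟩) hp hs (fun _ a b => Tc.act h ⟨_, hl⟩ a b) fun g a b' e => by
      obtain ⟨s, k⟩ := hl.act h a b'
      rw [e] at k
      exact ⟨-s, by rw [neg_smul, ← sub_eq_add_neg, eq_sub_iff_add_eq]; exact k.unique h hQ hl⟩

end Cfsg.Agent.UR
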