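import Cfsg.Agent.UR.N2s0
import Cfsg.Agent.UR.N2a

/-! Rank three actions of unitary groups: the spread case in dimension six. -/

set_option autoImplicit false
set_option linter.unusedSectionVars false

namespace Cfsg.Agent.UR

open Module MulAction Submodule Cfsg.Agent.Forms Cfsg.Agent.Polar Cfsg.Agent.Polar.PQ

variable {F : Type*} [Field F] [Fintype F] {q : ℕ} {hF : Fintype.card F = q ^ 2}
variable {V : Type*} [AddCommGroup V] [Module F V] [Finite V] {P : PQ (uFP hF) V} {H : Subgroup P.Iso}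

theorem n2s_conj {u v : V} {g k : P.Iso} (hg : g ∈ H) {a : F} (ha : a ≠ 0) (hgu : g • u = a • v)
    (h : k ∈ ResT H u) : g * k * g⁻¹ ∈ ResT H v := by
  obtain ⟨hk, w, c, h1, h2, h3, h4, h5, h6⟩ := h
  refine ⟨mul_mem (mul_mem hg hk) (inv_mem hg), g • w, c, h1.act g, ?_, fun h7 => h3 ?_, h4, h5, ?_⟩
  · have := B_smul_smul g w u
    rw [hgu, B_smul_right, h2] at this
    exact (mul_eq_zero.1 this).resolve_left ((map_ne_zero _).2 ha)
  · obtain ⟨t, ht⟩ := mem_span_singleton.1 h7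
    refine mem_span_singleton.2 ⟨t / a, MulAction.injective g ?_⟩
    simp only [act_smul, hgu, smul_smul, div_mul_cancel₀ _ ha, ht]
  · have := conj_mem_U (g := g) h6
    rw [hgu, U_smul ha] at this
    rw [← conj_tv h1 h4]
    convert this using 1
    group

theorem n2s_act {u : V} {k : P.Iso} (h : k ∈ ResT H u) : k • u = u ∧ ∃ w, ∃ c : F, c ≠ 0 ∧ w ∉ F ∙ u ∧
    ∀ x, P.B x u = 0 → ∃ a : F, k • x = x - (c * P.B x w) • w + a • u := by
  obtain ⟨-, w, c, h1, h2, h3, h4, h5, h6⟩ := h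
  have k1 : P.eich w 0 c • u = u := by rw [tv_smul h1 h4, B_swap_zero h2]; simp
  have k2 : ∀ x : V, k • x = P.eich w 0 c • ((P.eich w 0 c)⁻¹ * k) • x := fun x => by
    rw [mul_smul, smul_inv_smul]
  refine ⟨by rw [k2, h6.1, k1], w, c, h5, h3, fun x hx => ?_⟩
  obtain ⟨a, ha⟩ := h6.2 x hx
  exact ⟨a, by rw [k2, ha, smul_add, act_smul, k1, tv_smul h1 h4]⟩

theorem n2s_ne_one (hP : P.ND) {u : V} (u0 : u ≠ 0) {k : P.Iso} (h : k ∈ ResT H u) : k ≠ 1 := by
  have : FiniteDimensional F V := Module.Finite.of_finite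
  rintro rfl
  obtain ⟨-, w, c, c0, hw, h⟩ := n2s_act h
  obtain ⟨x, x1, x2⟩ := exists_perp_B_eq hP (li_of_notMem u0 hw) c⁻¹
  obtain ⟨a, ha⟩ := h x x1
  rw [x2, mul_inv_cancel₀ c0, one_smul, one_smul] at ha
  exact hw (mem_span_singleton.2 ⟨a, by linear_combination (norm := module) -ha⟩)

/-- a nontrivial element of `H` fixing a totally isotropic plane pointwise -/
structure El (H : Subgroup P.Iso) (h : P.Iso) (π : Submodule F V) : Prop where
  mem : h ∈ H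
  ne : h ≠ 1
  ts : P.TotSing π
  dim : finrank F π = 3
  fix : ∀ z ∈ π, h • z = z

/-- the plane attached to a point -/
structure Pl (H : Subgroup P.Iso) (u : V) (π : Submodule F V) : Prop where
  ts : P.TotSing π
  dim : finrank F π = 3
  mem : u ∈ π
  u0 : u ≠ 0
  ne : (ResT H u).Nonempty
  fix : ∀ h ∈ ResT H u, ∀ z ∈ π, h • z = z

theorem Pl.el (hP : P.ND) {u : V} {π : Submodule F V} (h : Pl H u π) {k : P.Iso} (hk : k ∈ ResT H u) :
    El H k π := ⟨hk.1, n2s_ne_one hP h.u0 hk, h.ts, h.dim, h.fix k hk⟩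

/-- the image of a subspace -/
def n2s_mp (g : P.Iso) (π : Submodule F V) : Submodule F V := π.map ((g : V ≃ₗ[F] V) : V →ₗ[F] V)

theorem n2s_mem {g : P.Iso} {π : Submodule F V} {x : V} : x ∈ n2s_mp g π ↔ g⁻¹ • x ∈ π :=
  ⟨by rintro ⟨y, hy, rfl⟩; exact (inv_smul_smul g y).symm ▸ hy, fun h => ⟨_, h, smul_inv_smul g x⟩⟩

theorem n2s_ts (g : P.Iso) {π : Submodule F V} (h : P.TotSing π) : P.TotSing (n2s_mp g π) :=
  ⟨by rintro _ ⟨x, hx, rfl⟩; exact (h.sing x hx).act g, by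
    rintro _ ⟨x, hx, rfl⟩ _ ⟨y, hy, rfl⟩; exact (B_smul_smul g x y).trans (h.perp x hx y hy)⟩

theorem El.conj {h g : P.Iso} {π : Submodule F V} (E : El H h π) (hg : g ∈ H) :
    El H (g * h * g⁻¹) (n2s_mp g π) :=
  ⟨mul_mem (mul_mem hg E.mem) (inv_mem hg), by simpa using E.ne, n2s_ts g E.ts,
    (LinearEquiv.finrank_map_eq _ _).trans E.dim, fun z hz => by
      rw [mul_smul, mul_smul, E.fix _ (n2s_mem.1 hz), smul_inv_smul]⟩

theorem Pl.conj {u v : V} {π : Submodule F V} (h : Pl H u π) {g : P.Iso} (hg : g ∈ H) {a : F}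
    (ha : a ≠ 0) (e : g • u = a • v) : Pl H v (n2s_mp g π) := by
  have e' : g⁻¹ • v = a⁻¹ • u := by rw [inv_smul_eq_iff, act_smul, e, smul_smul, inv_mul_cancel₀ ha, one_smul]
  refine ⟨n2s_ts g h.ts, (LinearEquiv.finrank_map_eq _ _).trans h.dim, n2s_mem.2 (e' ▸ smul_mem _ _ h.mem),
    fun k => act_ne_zero g h.u0 (by simp [e, k]), h.ne.elim fun k hk => ⟨_, n2s_conj hg ha e hk⟩,
    fun k hk z hz => ?_⟩
  have := h.fix _ (n2s_conj (inv_mem hg) (inv_ne_zero ha) e' hk) _ (n2s_mem.1 hz)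
  simpa [mul_smul] using this

section
variable (hP : P.ND) (h6 : finrank F V = 6) (hQ : NoQ H) {h k : P.Iso} {π ρ : Submodule F V}
include hP h6

theorem El.img (E : El H h π) (x : V) : h • x - x ∈ π :=
  bl_sub_mem hP (by rw [n2s_perp hP h6 E.ts E.dim]; exact E.fix) x

theorem El.skew (E : El H h π) (x y : V) : P.B (h • x - x) y = -P.B x (h • y - y) := by
  have h1 := B_smul_smul h x y
  have h3 := E.ts.perp _ (E.img hP h6 x) _ (E.img hP h6 y)
  simp only [map_sub, LinearMap.sub_apply] at h3 ⊢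
  linear_combination h1 - h3

include hQ

theorem El.of_fix (E : El H h π) {z : V} (hz : h • z = z) : z ∈ π := by
  by_contra hn
  obtain ⟨ℓ, l1, l2, -, l4⟩ := n2s_line hP h6 E.ts E.dim hn
  obtain ⟨x, hx, x0, hU⟩ := bl_one' hP l1 l2 (g := h) fun y hy => by
    obtain ⟨u, hu, w, hw, rfl⟩ := mem_sup.1 (l4 ▸ hy)
    obtain ⟨t, rfl⟩ := mem_span_singleton.1 hw
    rw [smul_add, act_smul, hz, E.fix u hu]
  exact E.ne (hQ x (l1.sing x hx) x0 h E.mem hU)

theorem El.eq (E : El H h π) (E' : El H h ρ) : π = ρ :=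
  le_antisymm (fun z hz => E'.of_fix hP h6 hQ (E.fix z hz)) fun z hz => E.of_fix hP h6 hQ (E'.fix z hz)

theorem Pl.eq {u : V} (h : Pl H u π) (h' : Pl H u ρ) : π = ρ :=
  h.ne.elim fun _ hk => (h.el hP hk).eq hP h6 hQ (h'.el hP hk)

theorem El.surj (E : El H h π) {a : V} (ha : a ∈ π) : ∃ y, h • y - y = a := by
  have : FiniteDimensional F V := Module.Finite.of_finite
  let N : V →ₗ[F] V := ((h : V ≃ₗ[F] V) : V →ₗ[F] V) - LinearMap.id
  have h1 : LinearMap.ker N = π := le_antisymm (fun z hz => E.of_fix hP h6 hQ (sub_eq_zero.1 hz))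
    fun z hz => sub_eq_zero.2 (E.fix z hz)
  have h2 := N.finrank_range_add_finrank_ker
  rw [h1] at h2
  have h3 := E.dim
  exact (eq_of_le_of_finrank_eq (show LinearMap.range N ≤ π by rintro _ ⟨x, rfl⟩; exact E.img hP h6 x)
    (by omega)).ge ha

theorem El.res (E : El H h π) {y : V} (h0 : h • y - y ≠ 0) (hy : P.B (h • y - y) y = 0) :
    h ∈ ResT H (h • y - y) := by
  have : FiniteDimensional F V := Module.Finite.of_finite
  obtain ⟨ℓ, l1, l2, l3, -⟩ := n2s_line hP h6 E.ts E.dim fun hn => h0 (sub_eq_zero.2 (E.fix y hn))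
  have hx := (l3 _).2 ⟨E.img hP h6 y, hy⟩
  obtain ⟨w, hw, hw0⟩ := bl_exists_notMem l2 (h • y - y)
  obtain ⟨y', e⟩ := E.surj hP h6 hQ ((l3 w).1 hw).1
  have key : ∀ z, P.B z (h • y - y) = 0 → ∃ a b : F, h • z = z + a • (h • y - y) + b • w ∧
      P.B z w = -(b * P.B w y') := fun z hz => by
    obtain ⟨a, b, hab⟩ := mem_span_pair.1 ((bl_span l2 hx h0 hw hw0).ge
      ((l3 _).2 ⟨E.img hP h6 z, by rw [E.skew hP h6, hz, neg_zero]⟩))
    refine ⟨a, b, by rw [add_assoc, hab]; simp, ?_⟩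
    have k1 := E.skew hP h6 z y'
    have k2 := E.skew hP h6 y y'
    rw [e, B_swap_zero ((l3 w).1 hw).2] at k2
    rw [e, ← hab, map_add, LinearMap.add_apply, B_smul_left, B_smul_left, k2] at k1
    linear_combination k1
  have D0 : P.B w y' ≠ 0 := fun hD => by
    obtain ⟨z, z1, z2⟩ := exists_perp_B_eq hP (li_of_notMem h0 hw0) 1
    obtain ⟨a, b, -, k⟩ := key z z1
    simp [z2, hD] at k
  have hl : (P.B w y')⁻¹ ∈ (uFP hF).Λ := u_mem_lam_iff.2 (by
    have := E.skew hP h6 y' y'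
    rw [e] at this
    rw [map_inv₀, ← u_swap, this, inv_neg, neg_neg])
  have sw := l1.sing w hw
  have k1 : P.eich w 0 (P.B w y')⁻¹ • (h • y - y) = h • y - y := by
    rw [tv_smul sw hl, l1.perp _ hx _ hw]; simp
  refine ⟨E.mem, w, _, sw, l1.perp _ hw _ hx, hw0, hl, inv_ne_zero D0,
    by rw [mul_smul, E.fix _ (E.img hP h6 y), inv_smul_eq_iff, k1], fun z hz => ?_⟩
  obtain ⟨a, b, k2, k3⟩ := key z hz
  refine ⟨a, ?_⟩
  rw [mul_smul, inv_smul_eq_iff, smul_add, act_smul, k1, tv_smul sw hl, k2, k3,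
    show (P.B w y')⁻¹ * -(b * P.B w y') = -b by field_simp, neg_smul]
  abel

variable (hA : ∀ u, P.Sing u → u ≠ 0 → ∃ π, Pl H u π)
include hA

theorem El.pl (E : El H h π) {y : V} (h0 : h • y - y ≠ 0) (hy : P.B (h • y - y) y = 0) :
    Pl H (h • y - y) π := by
  obtain ⟨ρ, hρ⟩ := hA _ (E.ts.sing _ (E.img hP h6 y)) h0
  rwa [E.eq hP h6 hQ (hρ.el hP (E.res hP h6 hQ h0 hy))]

theorem El.eq_of_norm (E : El H h π) (E' : El H k ρ) (h1 : n2s_mp h ρ = ρ) (h2 : n2s_mp k π = π) :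
    π = ρ := by
  have : FiniteDimensional F V := Module.Finite.of_finite
  by_contra hn
  have hc : h * k * h⁻¹ * k⁻¹ = 1 := by
    by_contra hc
    have hm := mul_mem (mul_mem (mul_mem E.mem E'.mem) (inv_mem E.mem)) (inv_mem E'.mem)
    refine hn (El.eq hP h6 hQ ⟨hm, hc, E.ts, E.dim, fun z hz => ?_⟩ ⟨hm, hc, E'.ts, E'.dim, fun z hz => ?_⟩)
    · have := E.fix _ (n2s_mem.1 (h2.ge hz))
      rw [mul_smul, mul_smul, mul_smul, inv_smul_eq_iff.2 this.symm, smul_inv_smul, E.fix z hz]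
    · rw [mul_smul, inv_smul_eq_iff.2 (E'.fix z hz).symm, mul_smul, mul_smul,
        E'.fix _ (n2s_mem.1 (h1.ge hz)), smul_inv_smul]
  rw [mul_inv_eq_one, mul_inv_eq_iff_eq_mul] at hc
  obtain ⟨y, hy, hy'⟩ := SetLike.not_le_iff_exists.1 fun l : ρ ≤ π =>
    hn (eq_of_le_of_finrank_eq l (E'.dim.trans E.dim.symm)).symm
  obtain ⟨v, rfl⟩ := E'.surj hP h6 hQ hy
  have e : h • (k • v - v) - (k • v - v) = k • (h • v - v) - (h • v - v) := by
    rw [smul_sub, smul_sub, ← mul_smul, hc, mul_smul]; abel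
  have h0 : h • (k • v - v) - (k • v - v) ≠ 0 := fun e => hy' (E.of_fix hP h6 hQ (sub_eq_zero.1 e))
  exact hn ((E.pl hP h6 hQ hA h0 (E'.ts.perp _ (e ▸ E'.img hP h6 _) _ hy)).eq hP h6 hQ
    (e ▸ E'.pl hP h6 hQ hA (e ▸ h0) (E.ts.perp _ (e ▸ E.img hP h6 _) _ (E.img hP h6 v))))

theorem El.exists_pl (E : El H h π) {ℓ : Submodule F V} (hl : ℓ ≤ π) (h2 : 2 ≤ finrank F ℓ) :
    ∃ x ∈ ℓ, Pl H x π := by
  have : FiniteDimensional F V := Module.Finite.of_finite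
  obtain ⟨c, hc, c0⟩ := u_exists_lam hF
  let N : V →ₗ[F] V := ((h : V ≃ₗ[F] V) : V →ₗ[F] V) - LinearMap.id
  have hr : LinearMap.range N = π := le_antisymm (by rintro _ ⟨x, rfl⟩; exact E.img hP h6 x)
    fun a ha => E.surj hP h6 hQ ha
  obtain ⟨s, hs⟩ := N.rangeRestrict.exists_rightInverse_of_surjective (LinearMap.range_rangeRestrict N)
  let j : ℓ →ₗ[F] V := s ∘ₗ inclusion (hl.trans hr.ge)
  have hj : ∀ a : ℓ, h • j a - j a = a := fun a => congrArg Subtype.val (LinearMap.congr_fun hs _)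
  obtain ⟨a, -, a0, ha⟩ := u_iso (P := ofHerm hF (c • ((P.B ∘ₗ ℓ.subtype).compl₂ j)) fun x y => by
    change c * P.B y (j x) = frobq hF (c * P.B x (j y))
    have := E.skew hP h6 (j y) (j x)
    rw [hj, hj] at this
    rw [map_mul, u_lam_tau hc, ← u_swap, this]; ring) ⊤ (by rwa [finrank_top])
  have k : c * P.B a (j a) = 0 := u_sing_iff.1 ha
  exact ⟨a, a.2, hj a ▸ E.pl hP h6 hQ hA (by rw [hj]; exact fun e => a0 (Subtype.ext e))
    (by rw [hj]; simpa [c0] using k)⟩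

theorem El.norm (E : El H h π) {x : V} (hx : x ∈ π) (h' : Pl H x ρ) : n2s_mp h ρ = ρ :=
  (h'.conj E.mem one_ne_zero (by rw [E.fix x hx, one_smul])).eq hP h6 hQ h'

theorem El.eq_of_line (E : El H h π) (E' : El H k ρ) (h2 : 2 ≤ finrank F (π ⊓ ρ : Submodule F V)) :
    π = ρ := by
  obtain ⟨x, hx, h1⟩ := E.exists_pl hP h6 hQ hA inf_le_left h2
  obtain ⟨y, hy, h3⟩ := E'.exists_pl hP h6 hQ hA inf_le_right h2
  exact E.eq_of_norm hP h6 hQ hA E' (E.norm hP h6 hQ hA hy.1 h3) (E'.norm hP h6 hQ hA hx.2 h1)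

theorem El.eq_of_pl (E : El H h π) {x : V} (hx : x ∈ π) (h' : Pl H x ρ) : π = ρ := by
  have : FiniteDimensional F V := Module.Finite.of_finite
  obtain ⟨k, hk⟩ := h'.ne
  refine E.eq_of_norm hP h6 hQ hA (h'.el hP hk) (E.norm hP h6 hQ hA hx h')
    ((E.conj hk.1).eq_of_line hP h6 hQ hA E ?_)
  obtain ⟨k1, w, c, -, -, k2⟩ := n2s_act hk
  obtain ⟨y, hy⟩ := hP.exists_eq' h'.u0 1
  obtain ⟨a, a0, a1, a2⟩ := exists_ne_zero_ker₂ ((P.B.flip w) ∘ₗ π.subtype) ((P.B.flip y) ∘ₗ π.subtype)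
    (by rw [E.dim]; omega)
  change P.B a w = 0 at a1
  change P.B a y = 0 at a2
  have hn : a.1 ∉ F ∙ x := fun hn => by
    obtain ⟨t, ht⟩ := mem_span_singleton.1 hn
    rw [← ht, B_smul_left, u_swap, hy, map_one, mul_one] at a2
    exact a0 (Subtype.ext (by simp [← ht, a2]))
  obtain ⟨s, hs⟩ := k2 a (E.ts.perp _ a.2 _ hx)
  rw [a1, mul_zero, zero_smul, sub_zero] at hs
  rw [← finrank_span_pair (li_of_notMem h'.u0 hn)]
  refine finrank_mono (span_le.2 ?_)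
  have kx : x ∈ n2s_mp k π := ⟨x, hx, k1⟩
  rintro _ (rfl | rfl)
  · exact ⟨kx, hx⟩
  · exact ⟨by simpa [hs] using sub_mem (show k • a.1 ∈ n2s_mp k π from ⟨a, a.2, rfl⟩) (smul_mem _ s kx), a.2⟩

theorem n2s_core : False :=
  n2s_spread hP h6 {π | ∃ h, El H h π} (fun _ h => h.elim fun _ E => ⟨E.ts, E.dim⟩)
    (fun x hx x0 => (hA x hx x0).elim fun π h => ⟨π, h.ne.elim fun k hk => ⟨k, h.el hP hk⟩, h.mem⟩)
    fun _ ⟨_, E⟩ _ ⟨_, E'⟩ x h1 h2 x0 => (hA x (E.ts.sing x h1) x0).elim fun _ h =>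
      (E.eq_of_pl hP h6 hQ hA h1 h).trans (E'.eq_of_pl hP h6 hQ hA h2 h).symm

end

theorem n2s (hP : P.ND) (h6 : finrank F V = 6) (hQ : NoQ H) (hT : PtTr H) {e f w b : V} {c : F}
    (h : P.Hyp e f) (hl : Lf H e f w c b)
    (hp : ∀ w1 ∈ Tc H e f c, ∀ w2 ∈ Tc H e f c, P.B w1 w2 = 0)
    (hall : ∀ w1 b1, Lf H e f w1 c b1 → P.B b1 w1 = 0) (h2 : ¬ Tc H e f c ⊆ F ∙ w) : False := by
  have : FiniteDimensional F V := Module.Finite.of_finite
  obtain ⟨w', ⟨b', hl'⟩, hw'⟩ := Set.not_subset.1 h2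
  obtain ⟨we, wf⟩ := mem_perp_pair.1 hl.w_mem
  obtain ⟨we', wf'⟩ := mem_perp_pair.1 hl'.w_mem
  have n1 : w ∉ F ∙ e := fun hn => by
    obtain ⟨t, rfl⟩ := mem_span_singleton.1 hn
    exact hl.w0 (by simp [show t = 0 by simpa [h.pair] using wf])
  have n2 : w' ∉ span F {e, w} := fun hn => by
    obtain ⟨s, t, rfl⟩ := mem_span_pair.1 hn
    exact hw' (mem_span_singleton.2 ⟨t, by simp [show s = 0 by simpa [h.pair, wf] using wf']⟩)
  have ww := hp w ⟨b, hl⟩ w' ⟨b', hl'⟩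
  have hπ : Pl H e (span F {w', e, w}) := by
    refine ⟨totSing_span ?_ ?_, ?_, subset_span (by simp), h.left_ne_zero, ?_, fun k hk => ?_⟩
    · rintro _ (rfl | rfl | rfl)
      exacts [hl'.sw, h.left, hl.sw]
    · rintro _ (rfl | rfl | rfl) _ (rfl | rfl | rfl)
      exacts [hl'.sw.B_self, we', B_swap_zero ww, B_swap_zero we', h.left.B_self, B_swap_zero we, ww, we,
        hl.sw.B_self]
    · rw [span_insert, sup_comm, finrank_sup_span_singleton n2,
        finrank_span_pair (li_of_notMem h.left_ne_zero n1)]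
    · obtain ⟨d, -, hd⟩ := hl.lift
      refine ⟨_, hd, w, c, hl.sw, we, n1, hl.lam, hl.c0, ?_⟩
      have := conj_mem_U (g := (P.eich w 0 c)⁻¹) (eich_mem_U e b d)
      rwa [inv_inv, inv_smul_eq_iff.2 (show e = P.eich w 0 c • e by simp [hl.tv, B_swap_zero we]),
        mul_assoc] at this
    obtain ⟨hk, w1, c1, a1, a2, a3, a4, a5, a6⟩ := hk
    obtain ⟨⟨b1, l1⟩, hU⟩ := lift_aux (H := H) h a1 a2 a3 a4 a5 a6 (by simpa using hk)
    rw [mul_inv_cancel_left] at hU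
    generalize P.hproj e f w1 = w2 at l1 hU
    obtain ⟨d, ok, hd⟩ := l1.lift
    have k1 := hQ e h.left h.left_ne_zero _ (mul_mem hk (inv_mem hd))
      (by rw [mul_inv_rev, ← mul_assoc]; exact mul_mem hU (inv_mem (eich_mem_U _ _ _)))
    rw [mul_inv_eq_one] at k1
    obtain ⟨a, a0, -, l2⟩ := l1.rescale hl.lam hl.c0
    have key : ∀ x y, Lf H e f x c y → k • x = x := fun x y l => by
      have k2 := hp _ ⟨_, l2⟩ _ ⟨_, l⟩
      have k3 : P.B b1 x = 0 := by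
        by_cases hx : x ∈ F ∙ a • w2
        · obtain ⟨t, rfl⟩ := mem_span_singleton.1 hx
          rw [B_smul_right, hall _ _ l2, mul_zero]
        · exact l2.comm h hQ l k2 hx
      have k4 : P.B x w2 = 0 := B_swap_zero (by simpa [a0] using k2)
      rw [k1, mul_smul, l1.tv, k4, mul_zero, zero_smul, sub_zero, u_eich_smul ok, B_swap_zero k3,
        (mem_perp_pair.1 l.w_mem).1]
      simp
    intro z hz
    induction hz using span_induction with
    | mem x hx =>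
      rcases hx with rfl | rfl | rfl
      · exact key _ _ hl'
      · rw [k1, mul_smul, l1.tv, B_swap_zero (mem_perp_pair.1 l1.w_mem).1]; simp [ok.eich_smul_e]
      · exact key _ _ hl
    | zero => exact smul_zero k
    | add x y _ _ hx hy => rw [smul_add, hx, hy]
    | smul t x _ hx => rw [act_smul, hx]
  exact n2s_core hP h6 hQ fun u hu u0 => by
    obtain ⟨g, hg, a, ha, k⟩ := hT e u h.left h.left_ne_zero hu u0
    exact ⟨_, hπ.conj hg ha k⟩

/-- the case of pairwise orthogonal centres -/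
theorem n2as (hP : P.ND) {n : ℕ} (hn : finrank F V = n) (h6 : 6 ≤ n) (hQ : NoQ H) (hT : PtTr H)
    {e f w b : V} {c : F} (h : P.Hyp e f) (hl : Lf H e f w c b)
    (hp : ∀ w1 ∈ Tc H e f c, ∀ w2 ∈ Tc H e f c, P.B w1 w2 = 0) :
    q * (Tc H e f c).ncard < Iq q (n - 2) ∧
      (q ^ 2 - 1) * Iq q (n - 2) ≤ q ^ 2 * (P.Kc H e).relIndex (P.Lv e f) := by
  by_cases hall : ∀ w1 b1, Lf H e f w1 c b1 → P.B b1 w1 = 0
  · exact n2a_ab hP hn h6 hQ h hl hp fun k _ =>
      by_contra (n2s hP (hn.trans k) hQ hT h hl hp hall)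
  · push Not at hall
    obtain ⟨w1, b1, l, k⟩ := hall
    exact n2a_ab hP hn h6 hQ h l hp fun _ k' => (k k').elim

end Cfsg.Agent.UR
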