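import Cfsg.Agent.UR.All
import Cfsg.Agent.UR.Sub
import Cfsg.Agent.UR.Ov
import Cfsg.Agent.UR.N3
import Cfsg.Agent.UR.N2f
import Cfsg.Agent.UR.N2s

/-! Rank three actions of unitary groups: assembly. -/

set_option autoImplicit false

namespace Cfsg.Agent.UR

open Module MulAction Cfsg.Agent.Forms Cfsg.Agent.Polar Cfsg.Agent.Polar.PQ

variable {F : Type*} [Field F] [Fintype F] {q : ℕ} {hF : Fintype.card F = q ^ 2}
  {V : Type*} [AddCommGroup V] [Module F V] [Finite V] {P : PQ (uFP hF) V} {n : ℕ}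
  {X : Type*} [Finite X] [MulAction P.EG X] {x : X}

omit [Finite V] in
theorem Cen.sing {H : Subgroup P.Iso} (h0 : NoTv H) {u w : V} (h : Cen H u w) : P.Sing u ∧ u ≠ 0 := by
  obtain ⟨h1, -, h3, c, hc, c0, y, hy, hH⟩ := h
  by_contra hn
  obtain rfl : y = 1 := iso_ext fun z => by
    by_cases u0 : u = 0
    · obtain ⟨a, ha⟩ := hy.2 z (by simp [u0])
      simpa [u0] using ha
    have hu : P.B u u ≠ 0 := fun e => hn ⟨u_sing_iff.2 e, u0⟩
    have k : P.B (z - (P.B z u / P.B u u) • u) u = 0 := by simp [hu]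
    obtain ⟨a, ha⟩ := hy.2 _ k
    have k2 := B_smul_smul y (z - (P.B z u / P.B u u) • u) u
    rw [ha, hy.1, map_add, LinearMap.add_apply, k, B_smul_left, zero_add, mul_eq_zero] at k2
    rw [k2.resolve_right hu, zero_smul, add_zero, smul_sub, act_smul, hy.1] at ha
    simpa using ha
  exact h0 w ⟨h1, fun e => h3 (e ▸ zero_mem _), c, hc, c0, by simpa using hH⟩

theorem main_of (hP : P.ND) (hn : finrank F V = n) (h6 : 6 ≤ n) (hq : 3 ≤ q) (R : Rk3 P x)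
    (hmax : IsCoatom (stabilizer P.EG x))
    (a1 : TrC (Hx P x) → Ln2 (Hx P x) → ∀ a b, InS (Hx P x) a → InS (Hx P x) b → P.B a b = 0 →
      a + b ≠ 0 → InS (Hx P x) (a + b))
    (b0 : Pt2 (Hx P x) → NoTv (Hx P x) → PtTr (Hx P x))
    (n1 : NoTv (Hx P x) → PtTr (Hx P x) → NoQ (Hx P x))
    (n2b : NoQ (Hx P x) → ∀ e f, P.Hyp e f → ∀ c, ∀ w1 ∈ Tc (Hx P x) e f c, ∀ w2 ∈ Tc (Hx P x) e f c,
      P.B w1 w2 ≠ 0 → q * (Tc (Hx P x) e f c).ncard < Iq q (n - 2) ∧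
        (q ^ 2 - 1) * Iq q (n - 2) ≤ q ^ 2 * (P.Kc (Hx P x) e).relIndex (P.Lv e f)) :
    (Even n → Nat.card X * (q ^ 2 - 1) = (q ^ n - 1) * (q ^ (n - 1) + 1)) ∧
      (Odd n → Nat.card X * (q ^ 2 - 1) = (q ^ n + 1) * (q ^ (n - 1) - 1)) := by
  refine (R.reduce hP hn h6 hq hmax).elim id fun ⟨h2, hL, hI, hH, _⟩ => False.elim ?_
  by_cases h0 : NoTv (Hx P x)
  · have hT := b0 h2 h0
    have hQ := n1 h0 hT
    refine n3 hP hn h6 hq R hQ fun e w hc => ?_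
    have : FiniteDimensional F V := Module.Finite.of_finite
    obtain ⟨f, h⟩ := hP.exists_hyp (hc.sing h0).1 (hc.sing h0).2
    obtain ⟨c, b, hl⟩ := lf_of_cen h hc
    refine And.elim (n2_fin hP hn h6 hq R hQ hT h hl.lam hl.c0) ?_
    by_cases hp : ∀ w1 ∈ Tc (Hx P x) e f c, ∀ w2 ∈ Tc (Hx P x) e f c, P.B w1 w2 = 0
    · exact n2as hP hn h6 hQ hT h hl hp
    · push Not at hp
      obtain ⟨w1, h1, w2, h2, k⟩ := hp
      exact n2b hQ e f h c w1 h1 w2 h2 k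
  · have hT := h2.trC h0
    by_cases h : ∃ a b, InS (Hx P x) a ∧ InS (Hx P x) b ∧ P.B a b = 0 ∧ b ∉ F ∙ a
    · exact hH (caseAll hP (by omega) (sub_all hP hn h6 hq hI (a1 hT hL) h))
    · exact ovoid_false hP hn h6 hq hI hT h0 fun a b ha hb hab => by_contra fun k => h ⟨a, b, ha, hb, hab, k⟩

end Cfsg.Agent.UR
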