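import Cfsg.Agent.UR.N2bT
import Cfsg.Agent.UR.N2b0

/-! Rank three actions of unitary groups: two non orthogonal centres. -/

set_option autoImplicit false
set_option linter.unusedSectionVars false

namespace Cfsg.Agent.UR

open Module MulAction Submodule Cfsg.Agent.Forms Cfsg.Agent.Polar Cfsg.Agent.Polar.PQ

variable {F : Type*} [Field F] [Fintype F] {q : ℕ} {hF : Fintype.card F = q ^ 2}
variable {V : Type*} [AddCommGroup V] [Module F V] [Finite V] {P : PQ (uFP hF) V} {H : Subgroup P.Iso}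

theorem n2i (hP : P.ND) {e f : V} (h : P.Hyp e f) (hQ : NoQ H) (c : F) : N2I H e f c :=
  ⟨fun a b d => by
    obtain ⟨β, ε, s, t, k1, k2, k3, k4, k5, k6, k7⟩ := n2b_pair hP h hQ a b d
    exact ⟨β, ε, s, t, k1, k2, k3, k4, k5, k6, k7⟩, n2b_clique hP h hQ⟩

theorem n2b_main (hP : P.ND) {n : ℕ} (hn : finrank F V = n) (h6 : 6 ≤ n) (hQ : NoQ H) {e f : V}
    (h : P.Hyp e f) {c : F} {w1 w2 : V} (h1 : w1 ∈ Tc H e f c) (h2 : w2 ∈ Tc H e f c) (h12 : P.B w1 w2 ≠ 0) :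
    q * (Tc H e f c).ncard < Iq q (n - 2) ∧
      (q ^ 2 - 1) * Iq q (n - 2) ≤ q ^ 2 * (P.Kc H e).relIndex (P.Lv e f) :=
  (n2i hP h hQ c).main hP hn h6 hQ h h1 h2 h12

end Cfsg.Agent.UR
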