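import Cfsg.Agent.UR.B0b
import Cfsg.Agent.TT.UPar
import Cfsg.Agent.Forms.NormCount

/-! Two orbits on points: the eigenvalue argument. -/

set_option autoImplicit false
set_option linter.unusedSectionVars false

namespace Cfsg.Agent.UR

open Module MulAction Matrix Finset Cfsg.Agent.Forms Cfsg.Agent.Polar Cfsg.Agent.Polar.PQ

variable {F : Type*} [Field F] [Fintype F] {q : ℕ} {hF : Fintype.card F = q ^ 2}
variable {V : Type*} [AddCommGroup V] [Module F V] [Finite V] {P : PQ (uFP hF) V} {n : ℕ}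
variable {X : Type*} [Fintype X] [MulAction P.EG X] {x : X}

variable (P) in
/-- the graph defined by the transvections -/
def bA (c : F) (a b : X) : Prop := ∃ v : Om P, tE c v • a = b

variable (P) in
/-- the sum of the transvections -/
noncomputable def mD (c : F) : Matrix X X ℚ := fun a b => ∑ v : Om P, bI (tE c v • a = b)

theorem tE_act {c : F} (hc : c ∈ (uFP hF).Λ) (g : P.EG) (v : Om P) (a b : X) :
    tE c (g • v) • g • a = g • b ↔ tE c v • a = b := by
  rw [tE_conj hc, mul_smul, inv_smul_smul, mul_smul, smul_left_cancel_iff]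

theorem bA_act {c : F} (hc : c ∈ (uFP hF).Λ) (g : P.EG) (a b : X) : bA P c (g • a) (g • b) ↔ bA P c a b :=
  ⟨fun ⟨v, h⟩ => ⟨g⁻¹ • v, by rwa [← tE_act hc g, smul_inv_smul]⟩, fun ⟨v, h⟩ => ⟨g • v, (tE_act hc g v a b).2 h⟩⟩

theorem mD_inv {c : F} (hc : c ∈ (uFP hF).Λ) : BInv P.EG (mD P c : Matrix X X ℚ) := fun g a b => by
  rw [mD, ← Equiv.sum_comp (MulAction.toPerm g)]
  simp only [MulAction.toPerm_apply, tE_act hc, mD]

theorem mD_sum (c : F) (a : X) (f : X → ℚ) : ∑ b, mD P c a b * f b = ∑ v : Om P, f (tE c v • a) := by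
  simp only [mD, sum_mul]
  rw [sum_comm]
  simp only [bI_single]

theorem mD_zero {c : F} {a b : X} (h : ¬ bA P c a b) : mD P c a b = 0 :=
  sum_eq_zero fun v _ => bI_neg fun e => h ⟨v, e⟩

theorem mD_ge {c : F} (hc : c ∈ (uFP hF).Λ) (a b : X) : (q + 1) * bI (bA P c a b) ≤ mD P c a b := by
  classical
  by_cases h : bA P c a b
  · obtain ⟨v, rfl⟩ := id h
    have h1 := card_nrm_eq hF (s := 1) (map_one _)
    rw [if_neg one_ne_zero, ← Set.ncard_coe_finset] at h1
    have h2 : ∀ t ∈ ((univ.filter fun t : F => nrm hF t = 1 : Finset F) : Set F), t * frobq hF t = 1 := fun t ht =>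
      (Finset.mem_filter.1 (Finset.mem_coe.1 ht)).2
    rw [bI_pos h, mul_one, mD, bI_sum]
    have := Set.ncard_le_ncard_of_injOn (s := ((univ.filter fun t : F => nrm hF t = 1 : Finset F) : Set F))
      (t := {w : Om P | tE c w • a = tE c v • a})
      (fun t => if h : t = 0 then v else ⟨t • v.1, v.2.1.smul t, smul_ne_zero h v.2.2⟩) (fun t ht => by
        have := h2 t ht
        simp only [dif_neg (left_ne_zero_of_mul_eq_one this), Set.mem_ofPred_eq]
        congr 1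
        exact Subtype.ext (by simp [tE, transvec_smul v.2.1 hc, this])) fun s hs t ht e => by
      simp only [dif_neg (left_ne_zero_of_mul_eq_one (h2 s hs)), dif_neg (left_ne_zero_of_mul_eq_one (h2 t ht))] at e
      exact smul_left_injective F v.2.2 (congrArg Subtype.val e)
    rw [h1] at this
    exact_mod_cast this
  · rw [bI_neg h, mD_zero h, mul_zero]

theorem b0_X (hP : P.ND) (hn : finrank F V = n) (h2 : 2 ≤ n) (R : Rk3 P x) (h0 : NoTv (Hx P x))
    (hlb : Iq q n + (q + 1) < Nat.card X * (q + 1)) {c : F} (hc : c ∈ (uFP hF).Λ) (c0 : c ≠ 0) :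
    ∃ y z : X, ¬ bA P c x x ∧ bA P c x y ∧ x ≠ y ∧ ¬ bA P c x z ∧ x ≠ z ∧ ∀ S : Matrix X X ℚ, BInv P.EG S →
      ∀ u w, S u w = (S x x - S x z) * bI (u = w) + (S x y - S x z) * bI (bA P c u w) + S x z := by
  have := R.trans
  have hx : ¬ bA P c x x := fun ⟨v, h⟩ => h0 v.1 ⟨v.2.1, v.2.2, c, hc, c0, mem_Hx.2 h⟩
  obtain ⟨e, he0, he⟩ := u_exists_sing P (by omega)
  have hy : bA P c x (tE c ⟨e, he, he0⟩ • x) := ⟨_, rfl⟩
  obtain ⟨z, hz, hz'⟩ : ∃ z, ¬ bA P c x z ∧ x ≠ z := by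
    by_contra h
    push Not at h
    have h1 : ∑ b, (q + 1) * (1 - bI (x = b) * 1) ≤ ∑ b, mD P c x b * 1 := sum_le_sum fun b _ => by
      refine le_trans (mul_le_mul_of_nonneg_left ?_ (by positivity)) ((mD_ge hc x b).trans (mul_one _).ge)
      by_cases hb : bA P c x b
      · rw [bI_pos hb, bI_neg fun e : x = b => hx (e ▸ hb)]; simp
      · rw [bI_neg hb, bI_pos (h b hb)]; simp
    rw [mD_sum, ← mul_sum, sum_sub_distrib, bI_single] at h1
    simp only [sum_const, card_univ, nsmul_eq_mul, mul_one, Om.card hP hn (by omega)] at h1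
    rw [Nat.card_eq_fintype_card] at hlb
    have h3 : (Iq q n : ℚ) + (q + 1) < Fintype.card X * (q + 1) := by exact_mod_cast hlb
    linarith
  set y := tE c (⟨e, he, he0⟩ : Om P) • x
  have st : ∀ (g : stabilizer P.EG x) b, bA P c x (g • b) ↔ bA P c x b := fun g b => by
    rw [← bA_act hc g.1 x b, g.2]; rfl
  refine ⟨y, z, hx, hy, fun e => hx (e ▸ hy), hz, hz', fun S hS u w => ?_⟩
  obtain ⟨g, rfl⟩ := exists_smul_eq P.EG x u
  obtain ⟨w, rfl⟩ := MulAction.surjective g w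
  rw [hS, bA_act hc, smul_left_cancel_iff]
  have hS' : ∀ (g : stabilizer P.EG x) b, S x (g • b) = S x b := fun g b => by
    rw [← hS g.1 x b, g.2]; rfl
  by_cases h1 : x = w
  · rw [← h1, bI_pos rfl, bI_neg hx]; ring
  by_cases h2 : w ∈ orbit (stabilizer P.EG x) y
  · obtain ⟨g, rfl⟩ := h2
    rw [hS', bI_neg h1, bI_pos ((st g y).2 hy)]; ring
  by_cases h3 : w ∈ orbit (stabilizer P.EG x) z
  · obtain ⟨g, rfl⟩ := h3
    rw [hS', bI_neg h1, bI_neg (mt (st g z).1 hz)]; ring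
  have := TT.four_orb (H := stabilizer P.EG x) (x = ·) (· ∈ orbit (stabilizer P.EG x) y)
    (· ∈ orbit (stabilizer P.EG x) z) (fun g b h => h ▸ g.2.symm) (fun g b h => mem_orbit_of_mem_orbit g h)
    (fun g b h => mem_orbit_of_mem_orbit g h) (a := x) (b := y) (c := z) (d := w) rfl
    ⟨fun e => hx (e ▸ hy), mem_orbit_self y⟩ ⟨hz', fun ⟨g, hg⟩ => hz (hg ▸ (st g y).2 hy), mem_orbit_self z⟩ ⟨h1, h2, h3⟩
  rw [R.three] at this
  omega

theorem b0_cj {H : Subgroup P.Iso} {u : V} {v w : Om P} (h : w.1 ∈ F ∙ v.1) : Cj H u w.1 ↔ Cj H u v.1 := by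
  obtain ⟨a, ha⟩ := Submodule.mem_span_singleton.1 h
  have a0 : a ≠ 0 := by rintro rfl; exact w.2.2 (by simpa using ha.symm)
  have : Cj H w.1 v.1 := ⟨1, one_mem _, a, a0, by rw [one_smul, ha]⟩
  exact ⟨fun h => h.trans this, fun h => h.trans this.symm⟩

theorem b0_Iq (h6 : 6 ≤ n) (q : ℕ) : ∃ y : ℤ, (q : ℤ) ^ 3 ≤ |y| ∧ (q : ℤ) ∣ y ∧ (1 ≤ q →
    (Iq q n : ℚ) = ((q : ℤ) ^ 3 * y + 1) * ((q : ℤ) ^ 2 * y - 1) ∧
    (Iq q (n - 2) : ℚ) = ((q : ℤ) * y + 1) * (y - 1)) := by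
  obtain ⟨m, rfl⟩ : ∃ m, n = m + 6 := ⟨n - 6, by omega⟩
  have h : ∀ k, 1 ≤ q → ((q ^ k - 1 : ℕ) : ℚ) = q ^ k - 1 := fun k h => by
    rw [Nat.cast_sub (Nat.one_le_pow _ _ h)]; simp
  have h3 : (q : ℤ) ^ 3 ≤ q ^ (m + 3) := by
    rcases q.eq_zero_or_pos with rfl | h
    · simp
    · exact pow_le_pow_right₀ (by exact_mod_cast h) (by omega)
  by_cases he : Even m
  · refine ⟨-q ^ (m + 3), by simpa, by simp, fun h1 => ?_⟩
    simp only [Iq, show m + 6 - 2 = m + 4 from rfl, if_pos (he.add (by decide : Even 6)),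
      if_pos (he.add (by decide : Even 4)), Nat.cast_mul, h _ h1, show m + 6 - 1 = m + 5 from rfl,
      show m + 4 - 1 = m + 3 from rfl]
    push_cast
    constructor <;> ring
  · refine ⟨q ^ (m + 3), by simpa, by simp, fun h1 => ?_⟩
    simp only [Iq, show m + 6 - 2 = m + 4 from rfl, if_neg (show ¬ Even (m + 6) by rw [Nat.even_iff] at he ⊢; omega),
      if_neg (show ¬ Even (m + 4) by rw [Nat.even_iff] at he ⊢; omega), Nat.cast_mul, h _ h1,
      show m + 6 - 1 = m + 5 from rfl, show m + 4 - 1 = m + 3 from rfl]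
    push_cast
    constructor <;> ring

theorem b0_of (hP : P.ND) (hn : finrank F V = n) (h6 : 6 ≤ n) (hq : 3 ≤ q) (R : Rk3 P x) (h2 : Pt2 (Hx P x))
    (h0 : NoTv (Hx P x)) (hlb : Iq q n + (q + 1) < Nat.card X * (q + 1)) : PtTr (Hx P x) := by
  classical
  intro u0 u1 s0 n0 s1 n1
  by_contra h01
  have := R.trans
  have := Om.trans hP (by omega)
  obtain ⟨c, hc, c0⟩ := u_exists_lam hF
  obtain ⟨y, z, x1, x2, x3, x4, x5, hX⟩ := b0_X hP hn (by omega) R h0 hlb hc c0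
  set U0 : Om P := ⟨u0, s0, n0⟩
  set U1 : Om P := ⟨u1, s1, n1⟩
  have N0 : (Fintype.card (Om P) : ℚ) ≠ 0 := by
    have : Nonempty (Om P) := ⟨U0⟩
    positivity
  -- the invariant matrix
  let r : X → Om P → Prop := fun a w => ∃ g : P.EG, g • x = a ∧ Cj (Hx P x) u0 (g⁻¹ • w).1
  have r1 : ∀ (g : P.EG) a w, r (g • a) (g • w) ↔ r a w := fun g a w =>
    ⟨fun ⟨k, h, h'⟩ => ⟨g⁻¹ * k, by rw [mul_smul, h, inv_smul_smul], by rwa [_root_.mul_inv_rev, inv_inv, mul_smul]⟩,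
      fun ⟨k, h, h'⟩ => ⟨g * k, by rw [mul_smul, h], by rwa [_root_.mul_inv_rev, mul_smul, inv_smul_smul]⟩⟩
  have r2 : ∀ w, r x w ↔ Cj (Hx P x) u0 w.1 := fun w =>
    ⟨fun ⟨k, h, h'⟩ => h'.trans ⟨k.1, mem_Hx.2 h, 1, one_ne_zero, by
      rw [one_smul, ← Om.smul_val, smul_inv_smul]⟩, fun h => ⟨1, one_smul _ _, by simpa using h⟩⟩
  set ρ : ℚ := (∑ w, bI (r x w)) / Fintype.card (Om P) with hρ
  let M : Matrix X (Om P) ℚ := fun a w => bI (r a w) - ρ
  have M1 : BInv P.EG M := fun g a w => by simp only [M, r1]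
  have M2 : ∀ a (v w : Om P), w.1 ∈ F ∙ v.1 → M a w = M a v := fun a v w h => by
    obtain ⟨g, rfl⟩ := exists_smul_eq P.EG x a
    rw [← smul_inv_smul g w, ← smul_inv_smul g v, M1, M1]
    simp only [M, r2]
    rw [b0_cj (v := g⁻¹ • v)]
    obtain ⟨t, ht⟩ := Submodule.mem_span_singleton.1 h
    exact Submodule.mem_span_singleton.2 ⟨t, by rw [Om.smul_val, Om.smul_val, ← ht, act_smul]⟩
  have M3 : ∀ a, ∑ w, M a w = 0 := fun a => by
    rw [M1.row a x]
    simp only [M, sum_sub_distrib, sum_const, card_univ, nsmul_eq_mul, hρ]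
    field_simp; ring
  have M4 : ∀ w, ∑ a, M a w = 0 := fun w => by
    have h : ∑ v, ∑ a, M a v = 0 := by rw [sum_comm]; simp only [M3, sum_const_zero]
    rw [sum_congr rfl fun v _ => show ∑ a, M a v = ∑ a, M a w from M1.tr.row v w, sum_const, card_univ, nsmul_eq_mul] at h
    exact (mul_eq_zero.1 h).resolve_left N0
  have c00 : Cj (Hx P x) u0 u0 := ⟨1, one_mem _, 1, one_ne_zero, by simp⟩
  have M5 : M x U0 - M x U1 = 1 := by simp only [M, r2]; rw [bI_pos c00, bI_neg h01]; ring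
  -- the eigenvalue on points
  obtain ⟨η, hη⟩ : ∃ η : ℚ, mP P * Mᵀ = η • Mᵀ := by
    set φ := fun u => (mP P * Mᵀ) u x with hφ
    have i1 := mP_inv.mul M1.tr
    have p1 : ∀ u w : Om P, Cj (Hx P x) u.1 w.1 → φ u = φ w := by
      rintro u w ⟨g, hg, a, ha, e⟩
      have e1 := i1 ⟨g, Hx_le x hg⟩ u x
      rw [mem_Hx.1 (show (⟨g, Hx_le x hg⟩ : P.EG).1 ∈ _ from hg)] at e1
      refine e1.symm.trans ?_
      simp only [hφ, mul_apply, mP, Om.smul_val, e, B_smul_right, mul_eq_zero, map_eq_zero, ha, false_or]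
    have p2 : ∀ w, φ w = (φ U0 - φ U1) * bI (r x w) + φ U1 := fun w => by
      rw [r2]
      by_cases h : Cj (Hx P x) u0 w.1
      · rw [bI_pos h, p1 U0 w h]; ring
      · rw [bI_neg h, p1 U1 w (((h2 u0 u1 w.1 s0 n0 s1 n1 w.2.1 w.2.2).resolve_left h01).resolve_left h)]; ring
    have p3 : ∑ u, φ u = 0 := by
      simp only [hφ, mul_apply, transpose_apply]
      rw [sum_comm]
      simp only [← sum_mul, mP_symm _ (_ : Om P), mP_sum hP hn (by omega), ← mul_sum, M3, mul_zero]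
    rw [sum_congr rfl fun w _ => p2 w, sum_add_distrib, ← mul_sum, sum_const, card_univ, nsmul_eq_mul] at p3
    refine ⟨φ U0 - φ U1, transpose_injective ((i1.tr).ext (M1.tr.smul _).tr x fun w => ?_)⟩
    change φ w = (φ U0 - φ U1) * (bI (r x w) - ρ)
    rw [p2 w, hρ]
    field_simp
    linear_combination p3
  have hE : mE P * Mᵀ = ((q : ℚ) ^ 2 - 1) • Mᵀ := by
    ext u a
    rw [mul_apply, Matrix.smul_apply, smul_eq_mul, ← mE_sum u, sum_mul]
    refine sum_congr rfl fun w _ => ?_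
    by_cases h : w.1 ∈ F ∙ u.1
    · rw [transpose_apply, transpose_apply, M2 a u w h]
    · rw [mE, bI_neg h, zero_mul, zero_mul]
  obtain ⟨a', b', c', hT⟩ := b0_rank hP (by omega) (M1.tr.mul M1) fun u v w h => by
    simp only [mul_apply, M2 _ v w h]
  obtain ⟨t1, t2, t3⟩ := b0_side Mᵀ (mE P) (mP P) hT hE hη M3
  -- the graph on `X`
  obtain ⟨lam, hlam⟩ : ∃ lam : ℕ, mD P c x y = lam := ⟨_, bI_sum _⟩
  let A : Matrix X X ℚ := fun a b => bI (bA P c a b)
  have hD : ∀ a b, mD P c a b = lam * A a b := fun a b => by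
    rw [hX _ (mD_inv hc), mD_zero x1, mD_zero x4, hlam]; ring
  have l0 : (lam : ℚ) ≠ 0 := by
    have := mD_ge (P := P) hc x y
    rw [bI_pos x2, hlam] at this
    have h : (0 : ℚ) ≤ q := by positivity
    intro h; linarith
  set K : ℚ := (q : ℚ) ^ 2 - 1 + q ^ 2 * Iq q (n - 2) with hK
  have hA : A * M = ((K - η) / lam) • M := by
    ext a w
    refine mul_left_cancel₀ l0 ?_
    have h1 := b0_eig (neg_mem hc) (neg_ne_zero.2 c0) (M a) (M2 a) (M3 a) w
    have h3 := congrFun₂ hη w a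
    rw [mul_apply] at h3
    simp only [transpose_apply, Matrix.smul_apply, smul_eq_mul] at h3
    rw [h3, mP_sum hP hn (by omega), ← hK] at h1
    rw [mul_apply, mul_sum, Matrix.smul_apply, smul_eq_mul]
    simp only [← mul_assoc, ← hD]
    rw [mD_sum, mul_div_cancel₀ _ l0, sub_mul, ← h1]
    exact sum_congr rfl fun v _ => by rw [← tE_inv hc, ← M1 (tE c v) a, smul_inv_smul]
  have hS := hX _ (M1.mul M1.tr)
  obtain ⟨d1, d2, d3⟩ := b0_side M (fun a b => bI (a = b)) A (s := 1) hS (by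
    rw [one_smul]; ext a w; exact bI_single a fun b => M b w) hA M4
  have hk : ∑ b, A x b = ({b | bA P c x b}.ncard : ℚ) := bI_sum _
  have hI : ∀ a b, ∑ z, A a z * bI (b = z) = A a b := fun a b => by
    simp only [mul_comm (A a _), bI_single]
  have hAA : ∀ b, ∑ z, A x z * A b z = ({z | bA P c x z ∧ bA P c b z}.ncard : ℚ) := fun b => by
    simp only [A, bI_mul, bI_sum]
  obtain ⟨Y, y1, y2, y3⟩ := b0_Iq h6 q
  obtain ⟨e, he0, he⟩ := u_exists_sing P (by omega)
  obtain ⟨f, h⟩ := hP.exists_hyp he he0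
  set E : Om P := ⟨e, he, he0⟩
  set E' : Om P := ⟨f, h.right, h.right_ne_zero⟩
  have fe : P.B f e ≠ 0 := B_swap_ne (by rw [h.pair]; exact one_ne_zero)
  have PE : ∀ u v : Om P, ∑ w, mP P u w * mE P v w = mP P u v * ((q : ℚ) ^ 2 - 1) := fun u v => by
    rw [← mE_sum v, mul_sum]
    refine sum_congr rfl fun w _ => ?_
    by_cases h : w.1 ∈ F ∙ v.1
    · obtain ⟨a, ha⟩ := Submodule.mem_span_singleton.1 h
      have a0 : a ≠ 0 := by rintro rfl; exact w.2.2 (by simpa using ha.symm)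
      simp [mP, ← ha, a0]
    · rw [mE, bI_neg h, mul_zero, mul_zero]
  have PP : ∑ w, mP P E w * mP P E w = K := by
    simp only [mP, bI_mul, and_self]; exact mP_sum hP hn (by omega) E
  have g1 : mP P E E = 1 := bI_pos he.B_self
  have g2 : mE P E E = 1 := bI_pos (Submodule.mem_span_singleton_self _)
  have g3 : mP P E E' = 0 := bI_neg fe
  have g4 : mE P E E' = 0 := bI_neg fun h => fe (TT.Bspan0 he.B_self _ h)
  have a1 : A x x = 0 := bI_neg x1
  have a2 : A x y = 1 := bI_pos x2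
  have a3 : A x z = 0 := bI_neg x4
  have e1 := d2 x x
  have e2 := d2 x z
  have e3 := d2 x y
  have e4 := d3 x
  have f1 := t2 E E
  have f2 := t2 E E'
  have f4 := t3 E
  have h1 := mD_sum (P := P) c x fun _ => 1
  simp only [hD, mul_one, ← mul_sum, sum_const, card_univ, nsmul_eq_mul, Om.card hP hn (by omega)] at h1
  simp only [hI, hAA, hk, a1, a2, a3, bI_pos trivial, bI_neg x3, bI_neg x5, and_self] at e1 e2 e3 h1
  rw [hk, show ∑ z, bI (x = z) = 1 by simpa using bI_single x fun _ => 1] at e4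
  rw [PE, mP_sum hP hn (by omega), ← hK] at f1 f2
  rw [PP, g1, g2] at f1
  rw [mP_two hP hn (by omega) h, g3, g4] at f2
  rw [mE_sum, mP_sum hP hn (by omega), ← hK, Om.card hP hn (by omega)] at f4
  have tr := trace_mul_comm M Mᵀ
  rw [(M1.mul M1.tr).trace x, (M1.tr.mul M1).trace E, hT, g1, g2, Om.card hP hn (by omega)] at tr
  have hβ : ∀ w, _ := fun w => (congrFun₂ d1 x w).symm.trans (congrFun₂ ((by
    simp [Matrix.mul_assoc] : M * Mᵀ * M = (Mᵀ * Mᵀᵀ * Mᵀ)ᵀ).trans (congrArg transpose t1)) x w)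
  simp only [Matrix.smul_apply, transpose_apply, smul_eq_mul] at hβ
  refine b0_ar q Y (by exact_mod_cast hq) y1 y2 (Fintype.card X) {b | bA P c x b}.ncard lam
    {w | bA P c x w ∧ bA P c z w}.ncard {w | bA P c x w ∧ bA P c y w}.ncard (Fintype.card_pos_iff.2 ⟨x⟩)
    ((Set.ncard_pos).2 ⟨y, x2⟩) (Set.ncard_le_ncard fun _ h => h.1) ((M * Mᵀ) x x - (M * Mᵀ) x z)
    ((M * Mᵀ) x y - (M * Mᵀ) x z) ((M * Mᵀ) x z) a' b' c' η ((K - η) / lam) (Iq q n) K (Iq q (n - 2)) (q ^ 2 - 1)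
    (by simp) (y3 (by omega)).1 (y3 (by omega)).2 (by simp [hK]) (by linear_combination h1) (mul_div_cancel₀ _ l0)
    (by linear_combination e1) (by linear_combination e2) (by linear_combination e3) (by linear_combination e4)
    (by linear_combination f1) (by linear_combination f2) (by linear_combination f4) ?_ (by linear_combination tr) ?_
  · linear_combination hβ U0 - hβ U1 - (((M * Mᵀ) x x - (M * Mᵀ) x z) + ((M * Mᵀ) x y - (M * Mᵀ) x z) *
      ((K - η) / lam) - ((q ^ 2 - 1) * a' + b' * η)) * M5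
  · rw [sub_add_cancel, mul_apply]
    intro h
    have := (sum_eq_zero_iff_of_nonneg fun w _ => mul_self_nonneg (M x w)).1 h
    rw [mul_self_eq_zero.1 (this U0 (mem_univ _)), mul_self_eq_zero.1 (this U1 (mem_univ _))] at M5
    simp at M5

end Cfsg.Agent.UR
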