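import Cfsg.Agent.UR.Base
import Cfsg.Agent.TT.UPar
import Cfsg.Agent.Forms.NormCount

/-! Rank three actions of unitary groups: orbits on points and lines, irreducibility. -/

set_option autoImplicit false
set_option linter.unusedSectionVars false

namespace Cfsg.Agent.UR

open Module MulAction Submodule Cfsg.Agent.Forms Cfsg.Agent.Polar Cfsg.Agent.Polar.PQ Cfsg.Agent.TT Cfsg.Agent.Cl

variable {F : Type*} [Field F] [Fintype F] {q : ℕ} {hF : Fintype.card F = q ^ 2}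
variable {V : Type*} [AddCommGroup V] [Module F V] [Finite V] {P : PQ (uFP hF) V}
variable {X : Type*} [MulAction P.EG X] [Finite X] {x : X}

theorem Rk3.dc3 (R : Rk3 P x) : DC3 (Hx P x) := fun g hg => by
  obtain ⟨i, j, hne, a, e⟩ := SR.exists_conj_of_card_lt (H := stabilizer P.EG x) (by rw [R.three]; omega)
    fun i : Fin 4 => (⟨g i, hg i⟩ : P.EG) • x
  refine ⟨i, j, hne, a⁻¹.1.1, mem_Hx.2 a⁻¹.2, ((⟨g j, hg j⟩ : P.EG)⁻¹ * a.1 * ⟨g i, hg i⟩ : P.EG),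
    mem_Hx.2 (by rw [mul_smul, mul_smul, inv_smul_eq_iff]; exact e), by simp [mul_assoc]⟩

theorem cjS_of {j : ℕ} {A B : TS P j} {g : P.EG} (hg : g ∈ stabilizer P.EG x) (e : g • A = B) :
    CjS (Hx P x) A.1 B.1 := ⟨g.1, mem_Hx.2 hg, fun v => by
  rw [← e, TS.mem_smul]
  exact ⟨fun ⟨y, hy, h⟩ => MulAction.injective g.1 h ▸ hy, fun h => ⟨v, h, rfl⟩⟩⟩

theorem CjS.cj {H : Subgroup P.Iso} {u v : V} (hu : u ≠ 0) (h : CjS H (F ∙ u) (F ∙ v)) : Cj H u v := by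
  obtain ⟨g, hg, h⟩ := h
  obtain ⟨a, ha⟩ := mem_span_singleton.1 ((h u).2 (mem_span_singleton_self u))
  exact ⟨g, hg, a, fun e => act_ne_zero g hu (by rw [← ha, e, zero_smul]), ha.symm⟩

theorem ts_pt {u : V} (hu : P.Sing u) : P.TotSing (F ∙ u) :=
  ⟨fun x hx => by obtain ⟨a, rfl⟩ := mem_span_singleton.1 hx; exact hu.smul a, fun x hx y hy => by
    obtain ⟨a, rfl⟩ := mem_span_singleton.1 hx
    obtain ⟨b, rfl⟩ := mem_span_singleton.1 hy
    simp [hu.B_self]⟩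

theorem not_fix_pt (hP : P.ND) (h4 : 4 ≤ finrank F V) {H : Subgroup P.Iso} (h : Pt2 H) {e : V}
    (he : P.Sing e) (h0 : e ≠ 0) (hH : ∀ g ∈ H, g • e ∈ F ∙ e) : False := by
  obtain ⟨f, hf⟩ := hP.exists_hyp he h0
  obtain ⟨w, w', k⟩ := exists_hyp2 hP (r := 2) (fun W hW => by
    obtain ⟨x, h0, hx⟩ := u_exists_sing (P.res W) hW
    exact ⟨x, x.2, by simpa using h0, hx⟩) h4 hf
  have k1 : ∀ y, Cj H e y → P.B y f = 0 ∨ P.B y e ≠ 0 → False := by
    rintro y ⟨g, hg, a, ha, e1⟩ hy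
    obtain ⟨t, ht⟩ := mem_span_singleton.1 (hH g hg)
    have e2 : y = (a⁻¹ * t) • e := by rw [mul_smul, ht, e1, smul_smul, inv_mul_cancel₀ ha, one_smul]
    have t0 : t ≠ 0 := fun e => act_ne_zero g h0 (by rw [← ht, e, zero_smul])
    simp [e2, hf.pair, he.B_self, ha, t0] at hy
  have o : P.B f e ≠ 0 := B_swap_ne (by rw [hf.pair]; exact one_ne_zero)
  rcases h e w f he h0 k.h2.left k.h2.left_ne_zero hf.right hf.right_ne_zero with h | h | ⟨g, hg, a, ha, e1⟩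
  · exact k1 _ h (Or.inl k.we')
  · exact k1 _ h (Or.inr o)
  · obtain ⟨t, ht⟩ := mem_span_singleton.1 (hH g⁻¹ (inv_mem hg))
    have := B_act_left g w e
    simp [e1, ← ht, k.we, ha, o] at this

theorem not_fix_ns (hP : P.ND) (h4 : 4 ≤ finrank F V) (hq : 3 ≤ q) {H : Subgroup P.Iso} (h : DC3 H) {u : V}
    (hu : ¬ P.Sing u) (hH : ∀ g ∈ H, g • u ∈ F ∙ u) : False := by
  classical
  have hβ : P.B u u ≠ 0 := fun e => hu (u_sing_iff.2 e)
  have hd := finrank_perp hP (F ∙ u)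
  rw [perp_span, finrank_span_singleton (fun e => hβ (by simp [e]))] at hd
  have nd : NDS P (P.perp {u}) := fun x hx h0 => by
    obtain ⟨y, hy⟩ := hP.exists_ne h0
    exact ⟨y - (P.B y u / P.B u u) • u, mem_perp_singleton.2 (by simp [hβ]), by
      simpa [mem_perp_singleton.1 hx] using hy⟩
  obtain ⟨e, e0, he⟩ := u_exists_sing (P.res (P.perp {u})) (by omega)
  obtain ⟨f, hf, k⟩ := nd.exists_hyp e.2 (by simpa using e0) he
  have eu := mem_perp_singleton.1 e.2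
  have fu := mem_perp_singleton.1 hf
  have k1 : ∀ z : F, ∃ g ∈ P.EG, g • u ∉ F ∙ u ∧ P.B (g • u) u = z * P.B u u := fun z => by
    obtain ⟨a, -, ha⟩ := exists_trace_eq (frobq_frobq hF) (exists_frobq_ne hF)
      (c := P.B u u * (1 - z * frobq hF z)) (by simp [u_fix_B_self, frobq_frobq, mul_comm])
    obtain ⟨g, hg, e1⟩ := u_exists_EG_nonsing hP (by omega) (y := z • u + a • e.1 + f) hu (by
      simp [eu, fu, B_swap_zero eu, B_swap_zero fu, k.pair, k.left.B_self, k.right.B_self, u_swap e.1 f]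
      linear_combination ha)
    refine ⟨g, hg, fun h => ?_, by simp [e1, eu, fu]⟩
    obtain ⟨t, ht⟩ := mem_span_singleton.1 h
    have := congrArg (P.B e.1) (ht.trans e1)
    simp [eu, k.pair, k.left.B_self] at this
  obtain ⟨z, z0, z1⟩ : ∃ z : F, nrm hF z ≠ 0 ∧ nrm hF z ≠ 1 := by
    by_contra hn
    push Not at hn
    have h1 := card_nrm_eq hF (s := 0) (map_zero _)
    have h2 := card_nrm_eq hF (s := 1) (map_one _)
    have h3 := (Finset.card_le_card (s := Finset.univ) (fun x _ => Finset.mem_union.2 (by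
      simpa using or_iff_not_imp_left.2 (hn x)))).trans (Finset.card_union_le
        (Finset.univ.filter fun x => nrm hF x = 0) (Finset.univ.filter fun x => nrm hF x = 1))
    rw [h1, h2, Finset.card_univ, hF, if_pos rfl, if_neg one_ne_zero] at h3
    nlinarith
  have sc : ∀ g ∈ H, ∃ t, nrm hF t = 1 ∧ g • u = t • u := fun g hg => by
    obtain ⟨t, ht⟩ := mem_span_singleton.1 (hH g hg)
    have := B_smul_smul g u u
    rw [← ht, B_smul_left, B_smul_right, ← mul_assoc] at this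
    exact ⟨t, (mul_eq_right₀ hβ).1 this, ht.symm⟩
  have k2 : ∀ a ∈ H, ∀ b ∈ H, ∀ g : P.Iso, nrm hF (P.B ((a * g * b) • u) u) = nrm hF (P.B (g • u) u) ∧
      ((a * g * b) • u ∈ F ∙ u ↔ g • u ∈ F ∙ u) := fun a ha b hb g => by
    obtain ⟨s, s1, hs⟩ := sc b hb
    obtain ⟨t, t1, ht⟩ := sc a⁻¹ (inv_mem ha)
    obtain ⟨r, r1, hr⟩ := sc a ha
    have s0 : s ≠ 0 := by rintro rfl; simp [nrm] at s1
    rw [mul_smul, mul_smul, hs, act_smul, act_smul, smul_mem_iff _ s0, B_smul_left, B_act_left, ht, B_smul_right]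
    refine ⟨?_, fun h => ?_, fun h => ?_⟩
    · simp only [nrm, map_mul, frobq_frobq] at *
      linear_combination (t * frobq hF t * s1 + t1) * (P.B (g • u) u * frobq hF (P.B (g • u) u))
    · obtain ⟨c, hc⟩ := mem_span_singleton.1 h
      rw [← inv_smul_smul a (g • u), ← hc, act_smul, ht]
      exact smul_mem _ _ (smul_mem _ _ (mem_span_singleton_self u))
    · obtain ⟨c, hc⟩ := mem_span_singleton.1 h
      rw [← hc, act_smul, hr]
      exact smul_mem _ _ (smul_mem _ _ (mem_span_singleton_self u))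
  obtain ⟨g0, a0, b0, c0⟩ := k1 0
  obtain ⟨g1, a1, b1, c1⟩ := k1 1
  obtain ⟨g2, a2, b2, c2⟩ := k1 z
  have hN : nrm hF (P.B u u) ≠ 0 := by simp [nrm, hβ]
  have m : ∀ a b, nrm hF (a * b) = nrm hF a * nrm hF b := fun a b => by simp only [nrm, map_mul]; ring
  have n0 : nrm hF 0 = 0 := by simp [nrm]
  obtain ⟨i, j, hne, a, ha, b, hb, e1⟩ := h ![1, g0, g1, g2] fun i => by
    fin_cases i <;> simp [a0, a1, a2]
  have k3 := k2 a ha b hb (![1, g0, g1, g2] j)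
  rw [← e1] at k3
  have m1 := mem_span_singleton_self (R := F) u
  rw [zero_mul] at c0
  rw [one_mul] at c1
  have hN' := hN.symm
  clear e1 k2 sc k1 h hH
  fin_cases i <;> fin_cases j <;> simp [b0, b1, b2, c0, c1, c2, m, m1, n0, hN, hN', z0, z1, z0.symm, z1.symm,
    eq_comm (a := nrm hF (P.B u u))] at hne k3

theorem Rk3.irr (hP : P.ND) (h6 : 6 ≤ finrank F V) (hq : 3 ≤ q) (R : Rk3 P x) (h : Pt2 (Hx P x)) :
    Irr (Hx P x) := fun W hW => by
  have := R.trans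
  by_contra hn
  rw [not_or] at hn
  have hW' : ∀ g ∈ Hx P x, ∀ y ∈ P.perp W, g • y ∈ P.perp W := fun g hg y hy w hw =>
    (B_act_left g y w).trans (hy _ (hW _ (inv_mem hg) w hw))
  have hd := finrank_perp hP W
  by_cases hR : ∃ r ∈ W, r ∈ P.perp W ∧ r ≠ 0
  · obtain ⟨r, r1, r2, r0⟩ := hR
    refine not_fix_pt hP (by omega) h (u_sing_iff.2 (r2 r r1)) r0 fun g hg => ?_
    exact not_fix_ts hP h6 (R.three ▸ SR.orb_le x (TS.swap hP)) (R.three ▸ SR.orb_le x (TS.swap hP))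
      (W := W ⊓ P.perp W) ⟨fun y hy => u_sing_iff.2 (hy.2 y hy.1), fun y hy z hz => hy.2 z hz.1⟩
      (fun g hg w hw => ⟨hW _ (mem_Hx.2 hg) w hw.1, hW' _ (mem_Hx.2 hg) w hw.2⟩) ⟨r1, r2⟩ r0
      ⟨hW g hg r r1, hW' g hg r r2⟩
  push Not at hR
  have one : ∀ A : Submodule F V, (∀ g ∈ Hx P x, ∀ y ∈ A, g • y ∈ A) → finrank F A = 1 → False := fun A hA h1 => by
    obtain ⟨u, u0, hu⟩ := finrank_eq_one_iff'.1 h1
    have k : ∀ g ∈ Hx P x, g • u.1 ∈ F ∙ u.1 := fun g hg => by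
      obtain ⟨c, hc⟩ := hu ⟨_, hA g hg u u.2⟩
      exact mem_span_singleton.2 ⟨c, congrArg Subtype.val hc⟩
    by_cases hs : P.Sing u.1
    · exact not_fix_pt hP (by omega) h hs (by simpa using u0) k
    · exact not_fix_ns hP (by omega) hq R.dc3 hs k
  have d1 : finrank F W ≠ 0 := fun e => hn.1 (Submodule.finrank_eq_zero.1 e)
  have d2 : finrank F W ≠ finrank F V := fun e => hn.2 (eq_top_of_finrank_eq e)
  have d3 := mt (one W hW) id
  have d4 := mt (one _ hW') id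
  obtain ⟨a, a0, ha⟩ := u_exists_sing (P.res W) (by omega)
  obtain ⟨b, b0, hb⟩ := u_exists_sing (P.res (P.perp W)) (by omega)
  have a0' : a.1 ≠ 0 := by simpa using a0
  have b0' : b.1 ≠ 0 := by simpa using b0
  have k : ∀ A : Submodule F V, (∀ g ∈ Hx P x, ∀ y ∈ A, g • y ∈ A) → ∀ u v, Cj (Hx P x) u v → u ∈ A → v ∈ A := by
    rintro A hA u v ⟨g, hg, c, hc, e⟩ hu
    exact (smul_mem_iff _ hc).1 (e ▸ hA g hg u hu)
  have n1 : b.1 ∉ W := fun h => b0' (hR _ h b.2)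
  have n2 : a.1 ∉ P.perp W := fun h => a0' (hR _ a.2 h)
  have n3 : a.1 + b.1 ∉ W := fun h => n1 ((W.add_mem_iff_right a.2).1 h)
  have n4 : a.1 + b.1 ∉ P.perp W := fun h => n2 ((Submodule.add_mem_iff_left _ b.2).1 h)
  rcases h a b (a.1 + b.1) ha a0' hb b0' (Sing.add ha hb (B_swap_zero (b.2 a a.2)))
    (fun e => n3 (e ▸ W.zero_mem)) with h | h | h
  exacts [n1 (k W hW _ _ h a.2), n3 (k W hW _ _ h a.2), n4 (k _ hW' _ _ h b.2)]

/-- **Reduction of S2196.** -/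
theorem Rk3.reduce (hP : P.ND) {n : ℕ} (hn : finrank F V = n) (h6 : 6 ≤ n) (hq : 3 ≤ q) (R : Rk3 P x)
    (hmax : IsCoatom (stabilizer P.EG x)) :
    ((Even n → Nat.card X * (q ^ 2 - 1) = (q ^ n - 1) * (q ^ (n - 1) + 1)) ∧
      (Odd n → Nat.card X * (q ^ 2 - 1) = (q ^ n + 1) * (q ^ (n - 1) - 1))) ∨
    (Pt2 (Hx P x) ∧ Ln2 (Hx P x) ∧ Irr (Hx P x) ∧ ¬ P.EG ≤ Hx P x ∧ ∀ j (A B C : TS P j),
      CjS (Hx P x) A.1 B.1 ∨ CjS (Hx P x) A.1 C.1 ∨ CjS (Hx P x) B.1 C.1) := by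
  have := R.trans
  refine (u_two_orb hP (by omega) x R.three).imp (fun ⟨v, hv, h0, hU⟩ =>
    u_pts hP hv h0 hn (u_par hP (by omega) x hmax R.three hv h0 hU)) fun h => ?_
  have k : ∀ j (A B C : TS P j), CjS (Hx P x) A.1 B.1 ∨ CjS (Hx P x) A.1 C.1 ∨ CjS (Hx P x) B.1 C.1 :=
    fun j A B C => by
      obtain ⟨g, hg, e⟩ := h j A B C
      exact e.imp (cjS_of hg) (Or.imp (cjS_of hg) (cjS_of hg))
  have p2 : Pt2 (Hx P x) := fun u v w a a' b b' c c' =>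
    (k 1 ⟨_, ts_pt a, finrank_span_singleton a'⟩ ⟨_, ts_pt b, finrank_span_singleton b'⟩
      ⟨_, ts_pt c, finrank_span_singleton c'⟩).imp (CjS.cj a') (Or.imp (CjS.cj a') (CjS.cj b'))
  exact ⟨p2, fun A B C a a' b b' c c' => k 2 ⟨A, a, a'⟩ ⟨B, b, b'⟩ ⟨C, c, c'⟩, R.irr hP (by omega) hq p2,
    fun e => hmax.1 (eq_top_iff.2 fun g _ => mem_Hx.1 (e g.2)), k⟩

end Cfsg.Agent.UR
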