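import Cfsg.Agent.UR.N1a
import Cfsg.Agent.UR.IB

/-! Rank three actions of unitary groups: index bounds for mutually orthogonal centres. -/

set_option autoImplicit false
set_option linter.unusedSectionVars false

namespace Cfsg.Agent.UR

open Module MulAction Submodule Cfsg.Agent.Forms Cfsg.Agent.Polar Cfsg.Agent.Polar.PQ

theorem n2a_iq {q d : ℕ} (hq : 2 ≤ q) (hd : 3 ≤ d) : (q ^ 2 - 1) * q ^ d ≤ Iq q d := by
  obtain ⟨k, rfl⟩ : ∃ k, d = k + 3 := ⟨d - 3, by omega⟩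
  have h1 : 1 ≤ q ^ k := Nat.one_le_pow _ _ (by omega)
  have h2 : q ^ 2 ≤ q ^ (k + 2) := Nat.pow_le_pow_right (by omega) (by omega)
  unfold Iq
  split_ifs with he
  · have h4 : q ^ (k + 2) ≤ q ^ (k + 3) := Nat.pow_le_pow_right (by omega) (by omega)
    have h5 : 1 ≤ q ^ 2 := Nat.one_le_pow _ _ (by omega)
    rw [show k + 3 - 1 = k + 2 from rfl]
    generalize q ^ (k + 2) = a at *
    generalize q ^ (k + 3) = b at *
    generalize q ^ 2 = c at *
    obtain ⟨c, rfl⟩ : ∃ x, c = x + 1 := ⟨c - 1, by omega⟩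
    obtain ⟨b, rfl⟩ : ∃ x, b = x + 1 := ⟨b - 1, by omega⟩
    simp only [Nat.add_sub_cancel]
    nlinarith
  · rw [mul_comm]
    exact Nat.mul_le_mul (by omega) (Nat.sub_le_sub_right h2 1)

theorem n2a_nq_ar {q d N : ℕ} (hq : 2 ≤ q) (hd : 2 ≤ d) (h : (q ^ d) ^ 2 ≤ q * N + q ^ d) :
    q ^ 2 - 1 ≤ N ∧ (3 ≤ d → (q ^ 2 - 1) * q ^ d ≤ N) := by
  have h2 : q ^ 2 ≤ q ^ d := Nat.pow_le_pow_right (by omega) hd
  have h5 : 1 ≤ q ^ 2 := Nat.one_le_pow _ _ (by omega)
  constructor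
  · refine Nat.le_of_mul_le_mul_left ?_ (show 0 < q by omega)
    have h3 : q ≤ q ^ d := by nlinarith
    zify [h5] at *
    nlinarith
  · intro h3
    refine Nat.le_of_mul_le_mul_left ?_ (show 0 < q by omega)
    have h4 : q ^ 3 ≤ q ^ d := Nat.pow_le_pow_right (by omega) h3
    zify [h5] at *
    nlinarith

variable {F : Type*} [Field F] [Fintype F] {q : ℕ} {hF : Fintype.card F = q ^ 2}
variable {V : Type*} [AddCommGroup V] [Module F V] [Finite V] {P : PQ (uFP hF) V} {H : Subgroup P.Iso}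

theorem n2a_sing0 (hP : P.ND) {d : ℕ} (hd : finrank F V = d + 2) (h1 : 1 ≤ d) {e f : V} (h : P.Hyp e f) :
    (P.sing0 (P.perp {e, f})).ncard = Iq q d := by
  have := ncard_sing0_res (P := P) (P.perp {e, f})
  rw [← ncard_sing0_add_one, ncard_sing0 (h.emb.nd hP) (n := d) (by have := h.finrank_perp; omega) h1] at this
  omega

theorem n2a_su2 {w w' b y : V} (hb : b ∈ P.perp {w, w'}) (hy : y ∈ P.perp {w, w'}) (h : P.Hyp b y) {s c : F}
    (hs : frobq hF s = s) (hc : c ∈ (uFP hF).Λ) (h0 : (s, c) ≠ 0) : ∃ g ∈ P.Lv w w', g • b = s • b + c • y := by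
  have yb : P.B y b = 1 := h.pair'
  have k : ∀ c ∈ (uFP hF).Λ, c ≠ 0 → ∃ g ∈ P.Lv w w', g • b = s • b + c • y := fun c hc c0 => by
    have ha : (1 - s) * c⁻¹ ∈ (uFP hF).Λ := u_lam_mul (lam_inv hc) (by rw [map_sub, map_one, hs])
    refine ⟨_, mul_mem (eich_mem_Lv hb (zero_mem _) (EOk.lam h.left ha))
      (eich_mem_Lv hy (zero_mem _) (EOk.lam h.right (neg_mem hc))), ?_⟩
    rw [mul_smul, tv_smul h.right (neg_mem hc), tv_smul h.left ha]
    simp only [map_sub, LinearMap.sub_apply, B_smul_left, h.pair, yb, h.left.B_self]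
    match_scalars <;> field_simp <;> ring
  by_cases c0 : c = 0
  · subst c0
    have s0 : s ≠ 0 := by rintro rfl; exact h0 rfl
    obtain ⟨c, hc, c0⟩ := u_exists_lam hF
    obtain ⟨g, hg, e⟩ := k c hc c0
    have ha : s⁻¹ * c ∈ (uFP hF).Λ := u_lam_mul hc (by rw [map_inv₀, hs])
    refine ⟨_, mul_mem (eich_mem_Lv hy (zero_mem _) (EOk.lam h.right ha)) hg, ?_⟩
    rw [mul_smul, e, tv_smul h.right ha]
    simp only [map_add, LinearMap.add_apply, B_smul_left, h.pair, h.right.B_self]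
    match_scalars <;> field_simp <;> ring
  · exact k c hc c0

theorem n2a_nu (hP : P.ND) {d : ℕ} (hd : finrank F V = d + 2) (h2 : 2 ≤ d) {w w' b : V} (h : P.Hyp w w')
    (hb : b ∈ P.perp {w, w'}) (b0 : b ≠ 0) : q ^ 2 - 1 ≤ {x | ∃ g ∈ P.Lv w w', g • b = x}.ncard ∧
      (3 ≤ d → (q ^ 2 - 1) * q ^ d ≤ {x | ∃ g ∈ P.Lv w w', g • b = x}.ncard) := by
  have hq := two_le_q hF
  have hr := h.finrank_perp
  by_cases hs : P.Sing b
  · refine ⟨?_, fun h3 => (n2a_iq hq h3).trans ?_⟩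
    · obtain ⟨y, hy, k⟩ := h.exists_hyp_perp hP hb b0 hs
      refine le_trans (le_of_eq ?_) (Set.ncard_le_ncard (s := (fun x : F × F => x.1 • b + x.2 • y) ''
        (({a | frobq hF a = a} ×ˢ ((uFP hF).Λ : Set F)) \ {0})) ?_)
      · rw [Set.ncard_image_of_injective, Set.ncard_sdiff_singleton_of_mem (by simp [zero_mem]), Set.ncard_prod,
          u_ncard_fix hF, show ((uFP hF).Λ : Set F).ncard = q from card_lam hF, sq]
        rintro ⟨s, t⟩ ⟨s', t'⟩ e
        have e1 := congrArg (P.B · y) e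
        have e2 := congrArg (P.B · b) e
        simp [k.pair, k.pair', k.left.B_self, k.right.B_self] at e1 e2
        rw [e1, e2]
      · rintro _ ⟨⟨s, c⟩, ⟨⟨h1, h3⟩, h4⟩, rfl⟩
        exact n2a_su2 hb hy k h1 h3 h4
    · rw [← n2a_sing0 hP hd (by omega) h]
      exact Set.ncard_le_ncard fun x hx => h.exists_Lv (u_vTrans (h.emb.nd hP) (by omega)) ⟨hb, b0, hs⟩ hx
  · have k := u_count d _ (P.res (P.perp {w, w'})) (h.emb.nd hP) (by omega)
    have hc : P.Q b ∉ (uFP hF).Λ := mt (sing_iff_of_QEq (QEq.self b)).2 hs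
    have k' : (q ^ d) ^ 2 ≤ q * (P.res (P.perp {w, w'})).nq (P.Q b) + q ^ d := by
      rcases Nat.even_or_odd d with he | he
      · have := (k.1 he).2 _ hc; omega
      · have := (k.2 he).2 _ hc; omega
    have le : (P.res (P.perp {w, w'})).nq (P.Q b) ≤ {x | ∃ g ∈ P.Lv w w', g • b = x}.ncard := by
      rw [← ncard_res_QEq]
      exact Set.ncard_le_ncard fun x hx => h.u_exists_Lv_nonsing hP (by omega) hb hx.1 hs
        ((u_QEq_iff.1 hx.2).symm.trans (u_QEq_iff.1 (QEq.self b)))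
    exact ⟨(n2a_nq_ar hq h2 k').1.trans le, fun h3 => ((n2a_nq_ar hq h2 k').2 h3).trans le⟩

theorem n2a_idx (hP : P.ND) {d : ℕ} (hd : finrank F V = d + 2) (h2 : 2 ≤ d) {K : Subgroup P.Iso} {w b : V}
    {T : Set V} (hw : P.Sing w) (w0 : w ≠ 0) (hb : b ∉ F ∙ w) (hT : T.ncard ≤ q ^ (d + 2))
    (hs : d = 2 → P.B b w = 0 → T.ncard ≤ q ^ 2 - 1) (h1 : ∀ g ∈ K, g ∈ P.EG → g • w ∈ T)
    (h3 : ∀ g ∈ K, g ∈ P.EG → g • w = w → ∃ s : F, g • b = b + s • w) :
    (q ^ 2 - 1) * Iq q (d + 2) ≤ q ^ 2 * K.relIndex P.EG := by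
  have hq := two_le_q hF
  obtain ⟨w', h⟩ := hP.exists_hyp hw w0
  have hO : ∀ z ∈ P.sing0 Set.univ, ∃ g ∈ P.EG, g • w = z := fun z hz =>
    u_vTrans hP (by omega) w z hw hz.2.2 w0 hz.2.1
  have T0 : 0 < T.ncard := (Set.ncard_pos T.toFinite).2 ⟨w, by simpa using h1 1 (one_mem _) (one_mem _)⟩
  by_cases bw : P.B b w = 0
  · have hb0 : P.hproj w w' b ≠ 0 := fun e => hb (mem_span_singleton.2 ⟨P.B b w', by
      simpa [e] using (Hyp.eq_of_perp (f := w') bw).symm⟩)
    have k := n2a_nu hP hd h2 h (h.hproj_mem b) hb0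
    have := index_orbit₂ K P.EG w b (O' := (fun x : V × F => x.1 + x.2 • w) ''
      ({x | ∃ g ∈ P.Lv w w', g • P.hproj w w' b = x} ×ˢ Set.univ)) (T' := (fun s : F => b + s • w) '' Set.univ)
      hO T.toFinite h1 ?_ (Set.toFinite _) fun g a b c => (h3 g a b c).imp fun s e => ⟨trivial, e.symm⟩
    · rw [ncard_sing0 hP hd (by omega), Set.ncard_image_of_injOn, Set.ncard_prod, Set.ncard_univ, u_card hF]
        at this
      · have k2 : ((fun s : F => b + s • w) '' Set.univ).ncard ≤ q ^ 2 :=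
          (Set.ncard_image_le).trans (by rw [Set.ncard_univ, u_card hF])
        have k3 := Nat.le_of_mul_le_mul_right ((mul_assoc _ _ _).le.trans (this.trans (Nat.mul_le_mul_left _ k2)))
          (by positivity)
        by_cases d2 : d = 2
        · have := Nat.le_of_mul_le_mul_right ((Nat.mul_le_mul_left _ ((hs d2 bw).trans k.1)).trans k3) T0
          exact Nat.mul_le_mul (Nat.sub_le _ _) this
        · have := (Nat.mul_le_mul_left _ (k.2 (by omega))).trans (k3.trans (Nat.mul_le_mul_left _ hT))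
          refine Nat.le_of_mul_le_mul_right ?_ (show 0 < q ^ d by positivity)
          calc _ = Iq q (d + 2) * ((q ^ 2 - 1) * q ^ d) := by ring
            _ ≤ _ := this
            _ = _ := by ring
      · rintro ⟨x, s⟩ ⟨⟨g, hg, rfl⟩, -⟩ ⟨x', s'⟩ ⟨⟨g', hg', rfl⟩, -⟩ e
        have e1 := congrArg (P.B · w') e
        simp only [map_add, LinearMap.add_apply, B_smul_left, h.pair, mul_one,
          (mem_perp_pair.1 (Lv_smul_mem hg (h.hproj_mem b))).2,
          (mem_perp_pair.1 (Lv_smul_mem hg' (h.hproj_mem b))).2, zero_add] at e1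
        subst e1
        exact Prod.ext (add_right_cancel e) rfl
    · rintro _ ⟨⟨_, t⟩, ⟨⟨g, hg, rfl⟩, -⟩, rfl⟩
      have m := Lv_smul_mem hg (h.hproj_mem b)
      obtain ⟨a, ha, e⟩ := h.exists_ne_perp hP m (act_ne_zero g hb0) (P.B b w' - t)
      have ok := EOk.of_perp hw (mem_perp_pair.1 ha).1
      have gw := (mem_Lv.1 hg).1.1
      refine ⟨_, mul_mem (eich_mem_EG w a (P.Q a)) (mem_Lv.1 hg).2, by rw [mul_smul, gw, ok.eich_smul_e], ?_⟩
      have e2 : g • b = g • P.hproj w w' b + P.B b w' • w := by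
        conv_lhs => rw [Hyp.eq_of_perp (f := w') bw, smul_add, act_smul, gw]
      rw [mul_smul, e2, smul_add, act_smul, ok.eich_smul_e, ok.eich_smul_of_perp (mem_perp_pair.1 m).1, e]
      generalize g • P.hproj w w' b = z
      simp only [uFP_eps]
      module
  · have wb := B_swap_ne bw
    have := index_orbit₂ K P.EG w b (O' := (fun u : P.Iso => u • b) '' P.U w)
      (T' := (fun c : F => b + (c / P.B w b) • w) '' (uFP hF).Λ) hO T.toFinite h1 ?_ (Set.toFinite _) ?_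
    · rw [ncard_sing0 hP hd (by omega), Set.ncard_image_of_injOn, ← Nat.card_coe_set_eq, SetLike.coe_sort_coe,
        ib_card_U hd h] at this
      · have k2 : ((fun c : F => b + (c / P.B w b) • w) '' (uFP hF).Λ).ncard ≤ q :=
          (Set.ncard_image_le).trans (card_lam hF).le
        obtain ⟨j, rfl⟩ : ∃ j, d = j + 2 := ⟨d - 2, by omega⟩
        have k3 := this.trans (Nat.mul_le_mul (Nat.mul_le_mul_left _ hT) k2)
        rw [show 2 * (j + 2 + 2) - 3 = j + (j + 2 + 2 + 1) by omega, pow_add, ← mul_assoc, mul_assoc _ _ q,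
          ← pow_succ] at k3
        refine Nat.mul_le_mul (Nat.sub_le _ _) (le_trans (Nat.le_mul_of_pos_right _ (by positivity))
          (Nat.le_of_mul_le_mul_right k3 (by positivity)))
      · intro u hu u' hu' e
        obtain ⟨a, ha, c, ok, e'⟩ := h.mem_U_iff.1 (mul_mem (inv_mem hu) hu')
        have e1 : P.eich w a c • b = b := by rw [← e', mul_smul, inv_smul_eq_iff]; exact e.symm
        rw [u_eich_smul ok] at e1
        have e2 := congrArg (P.B · w') e1
        simp only [map_add, map_sub, LinearMap.add_apply, LinearMap.sub_apply, B_smul_left, h.pair, mul_one,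
          (mem_perp_pair.1 ha).2, mul_zero, add_zero, sub_eq_self] at e2
        have a0 : a = 0 := by simpa [e2, bw] using e1
        have c0 : c = 0 := by simpa [a0, bw] using e2
        rw [a0, c0, eich_zero, inv_mul_eq_one] at e'
        exact e'
    · rintro _ ⟨u, hu, rfl⟩
      exact ⟨u, h.U_le_EG hu, (mem_U.1 hu).1, rfl⟩
    · intro g a1 a2 a3
      obtain ⟨s, e⟩ := h3 g a1 a2 a3
      refine ⟨s * P.B w b, (mem_uFP_lam hF _).2 ?_, by simp [e, wb]⟩
      have := B_smul_smul g b b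
      simp only [e, map_add, LinearMap.add_apply, B_smul_left, B_smul_right, hw.B_self] at this
      rw [map_mul, ← u_swap]
      linear_combination this

theorem n2a_card (hP : P.ND) {T : Set V} (h : ∀ x ∈ T, ∀ y ∈ T, P.B x y = 0) : T.ncard ≤ q ^ finrank F V := by
  have h1 : span F T ≤ P.perp (span F T : Submodule F V) := by
    rw [perp_span]; exact span_le.2 h
  have h2 := Submodule.finrank_mono h1
  have h3 := finrank_perp hP (span F T)
  refine (Set.ncard_le_ncard (subset_span (R := F))).trans ?_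
  rw [← Nat.card_coe_set_eq, SetLike.coe_sort_coe, card_submodule, u_card hF, ← pow_mul]
  exact Nat.pow_le_pow_right (by have := two_le_q hF; omega) (by omega)

/-- the two inequalities needed for mutually orthogonal centres -/
theorem n2a_core (hP : P.ND) {n : ℕ} (hn : finrank F V = n) (h6 : 6 ≤ n) {e f : V} (h : P.Hyp e f)
    {K : Subgroup P.Iso} {w b : V} {T : Set V} (hw : P.Sing w) (w0 : w ≠ 0) (wW : w ∈ P.perp {e, f})
    (bW : b ∈ P.perp {e, f}) (hb : b ∉ F ∙ w) (TW : ∀ x ∈ T, x ∈ P.perp {e, f} ∧ x ≠ 0)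
    (hp : ∀ x ∈ T, ∀ y ∈ T, P.B x y = 0) (hs : n = 6 → P.B b w = 0 → T ⊆ F ∙ w)
    (h1 : ∀ g ∈ K, g ∈ P.Lv e f → g • w ∈ T)
    (h3 : ∀ g ∈ K, g ∈ P.Lv e f → g • w = w → ∃ s : F, g • b = b + s • w) :
    q * T.ncard < Iq q (n - 2) ∧ (q ^ 2 - 1) * Iq q (n - 2) ≤ q ^ 2 * K.relIndex (P.Lv e f) := by
  have hq := two_le_q hF
  have hr := h.finrank_perp
  obtain ⟨d, rfl⟩ : ∃ d, n = d + 2 + 2 := ⟨n - 4, by omega⟩
  have hd : finrank F (P.perp {e, f}) = d + 2 := by omega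
  have e1 : {x : P.perp {e, f} | x.1 ∈ T}.ncard = T.ncard := by
    rw [← ncard_res]; congr 1; ext x; exact ⟨fun a => a.2, fun a => ⟨(TW x a).1, a⟩⟩
  have e2 : {x : P.perp {e, f} | x.1 ∈ T}.ncard ≤ q ^ (d + 2) :=
    hd ▸ n2a_card (h.emb.nd hP) fun x hx y hy => hp _ hx _ hy
  rw [Nat.add_sub_cancel]
  refine ⟨lt_of_lt_of_le ?_ (n2a_iq hq (by omega)), (n2a_idx (h.emb.nd hP) hd (by omega) (K := K.comap h.emb.ext)
    (w := ⟨w, wW⟩) (b := ⟨b, bW⟩) hw (fun e => w0 (congrArg Subtype.val e)) (fun e => hb ?_) e2 (fun a b => ?_)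
    (fun g a b => ?_) fun g a b c => ?_).trans (Nat.mul_le_mul_left _ (h.relIndex_comap_le K))⟩
  · refine lt_of_le_of_lt (Nat.mul_le_mul_left _ (e1 ▸ e2)) (Nat.mul_lt_mul_of_pos_right ?_ (by positivity))
    have : q * 2 ≤ q * q := Nat.mul_le_mul_left _ hq
    rw [sq]; omega
  · obtain ⟨s, e⟩ := mem_span_singleton.1 e
    exact mem_span_singleton.2 ⟨s, congrArg Subtype.val e⟩
  · rw [e1, ← u_card hF, ← card_span_singleton w0, ← SetLike.coe_sort_coe, Nat.card_coe_set_eq,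
      ← Set.ncard_sdiff_singleton_of_mem (zero_mem _)]
    exact Set.ncard_le_ncard fun x hx => ⟨hs (by omega) b hx, (TW x hx).2⟩
  · have := h1 _ a (h.ext_mem_Lv b)
    rwa [h.ext_smul_coe g ⟨w, wW⟩] at this
  · obtain ⟨s, e⟩ := h3 _ a (h.ext_mem_Lv b) (by rw [h.ext_smul_coe g ⟨w, wW⟩, c])
    exact ⟨s, Subtype.ext (by rw [← h.ext_smul_coe]; exact e)⟩

end Cfsg.Agent.UR
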