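import Cfsg.Agent.UR.N2a

/-! Rank three actions of unitary groups: index bounds for non orthogonal centres. -/

set_option autoImplicit false
set_option linter.unusedSectionVars false

namespace Cfsg.Agent.UR

open Module MulAction Submodule Cfsg.Agent.Forms Cfsg.Agent.Polar Cfsg.Agent.Polar.PQ

theorem n2b_iq {q k : ℕ} (hq : 2 ≤ q) (hk : 1 ≤ k) : (q ^ 2 - 1) * q ^ (2 * k) ≤ Iq q (k + 2) := by
  obtain ⟨j, rfl⟩ : ∃ j, k = j + 1 := ⟨k - 1, by omega⟩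
  have h1 : 1 ≤ q ^ j := Nat.one_le_pow _ _ (by omega)
  have h5 : 1 ≤ q ^ 2 := Nat.one_le_pow _ _ (by omega)
  have h6 : 1 ≤ q ^ (j + 1 + 2) := Nat.one_le_pow _ _ (by omega)
  have h7 : 1 ≤ q ^ (j + 2) := Nat.one_le_pow _ _ (by omega)
  unfold Iq
  rw [show j + 1 + 2 - 1 = j + 2 from rfl]
  have e1 : (q ^ 2 - 1) * q ^ (j + 1) ≤ q ^ (j + 1 + 2) - 1 := by
    have : 1 ≤ q ^ (j + 1) := Nat.one_le_pow _ _ (by omega)
    rw [Nat.sub_mul, ← pow_add, add_comm 2]; omega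
  have e2 : (q ^ 2 - 1) * q ^ j ≤ q ^ (j + 2) - 1 := by
    rw [Nat.sub_mul, ← pow_add, add_comm 2]; omega
  split_ifs
  · rw [two_mul, pow_add, ← mul_assoc]
    exact Nat.mul_le_mul e1 ((Nat.pow_le_pow_right (by omega) (by omega)).trans (Nat.le_succ _))
  · rw [show 2 * (j + 1) = j + (j + 2) by omega, pow_add, ← mul_assoc, mul_comm]
    exact Nat.mul_le_mul ((Nat.pow_le_pow_right (by omega) (by omega)).trans (Nat.le_succ _)) e2

variable {F : Type*} [Field F] [Fintype F] {q : ℕ} {hF : Fintype.card F = q ^ 2}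
variable {V : Type*} [AddCommGroup V] [Module F V] [Finite V] {P : PQ (uFP hF) V} {H : Subgroup P.Iso}

theorem n2b_orbU (hP : P.ND) {n : ℕ} (hn : finrank F V = n) {w b : V} (hw : P.Sing w) (bw : P.B b w ≠ 0) :
    ((fun u : P.Iso => u • b) '' P.U w).ncard = q ^ (2 * n - 3) := by
  obtain ⟨w', h⟩ := hP.exists_hyp hw (by rintro rfl; simp at bw)
  rw [Set.ncard_image_of_injOn, ← Nat.card_coe_set_eq, SetLike.coe_sort_coe, ib_card_U hn h]
  intro u hu u' hu' e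
  obtain ⟨a, ha, c, ok, e'⟩ := h.mem_U_iff.1 (mul_mem (inv_mem hu) hu')
  have e1 : P.eich w a c • b = b := by rw [← e', mul_smul, inv_smul_eq_iff]; exact e.symm
  rw [u_eich_smul ok] at e1
  have e2 := congrArg (P.B · w') e1
  simp only [map_add, map_sub, LinearMap.add_apply, LinearMap.sub_apply, B_smul_left, h.pair, mul_one,
    (mem_perp_pair.1 ha).2, mul_zero, add_zero, sub_eq_self] at e2
  have a0 : a = 0 := by simpa [e2, bw] using e1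
  have c0 : c = 0 := by simpa [a0, bw] using e2
  rw [a0, c0, eich_zero, inv_mul_eq_one] at e'
  exact e'

theorem n2b_cnt (hP : P.ND) {n : ℕ} (hn : finrank F V = n) {w b : V} (hw : P.Sing w) (hb : P.Sing b)
    (bw : P.B b w ≠ 0) : {y | P.Sing y ∧ P.B y w = P.B b w}.ncard ≤ q ^ (2 * n - 3) := by
  rw [← n2b_orbU hP hn hw bw]
  exact Set.ncard_le_ncard fun y hy => exists_U_smul hw bw hy.2 hb hy.1

theorem n2b_two {w b : V} (hw : P.Sing w) (hb : P.Sing b) (bw : P.B b w ≠ 0) {T : Set V}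
    (hT : ∀ x ∈ T, P.Sing x ∧ P.B x w = P.B b w ∧ x ∈ span F {w, b}) : T.ncard ≤ q := by
  have wb := B_swap_ne bw
  refine (Set.ncard_le_ncard (t := (fun c : F => b + (c / P.B w b) • w) '' (uFP hF).Λ) fun x hx => ?_).trans
    ((Set.ncard_image_le).trans (card_lam hF).le)
  obtain ⟨h1, h2, h3⟩ := hT x hx
  obtain ⟨s, t, rfl⟩ := mem_span_pair.1 h3
  have ht : t = 1 := by simpa [hw.B_self, bw] using h2
  subst ht
  refine ⟨s * P.B w b, (mem_uFP_lam hF _).2 ?_, by simp [wb, add_comm]⟩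
  have := h1.B_self
  simp only [map_add, LinearMap.add_apply, B_smul_left, B_smul_right, hw.B_self, hb.B_self, map_one] at this
  rw [map_mul, ← u_swap]
  linear_combination this

theorem n2b_mod (hP : P.ND) {d : ℕ} (hd : finrank F V = d + 2) {w b β : V} (hw : P.Sing w) (hb : P.Sing b)
    (bw : P.B b w ≠ 0) (hβ : P.Sing β) (β0 : β ≠ 0) (wβ : P.B w β = 0) (bβ : P.B b β = 0) {T : Set V}
    (hT : ∀ x ∈ T, P.Sing x ∧ P.B x w = P.B b w ∧ P.B x β = 0)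
    (hi : ∀ x ∈ T, ∀ y ∈ T, P.B x y = 0 → y ∈ F ∙ x) : T.ncard ≤ q ^ (2 * d - 3) := by
  obtain ⟨β', h⟩ := hP.exists_hyp hβ β0
  have k : ∀ x y, P.B x β = 0 → P.B y β = 0 → P.B (P.hproj β β' x) (P.hproj β β' y) = P.B x y := fun x y a b => by
    simp [hproj_apply, a, b, B_swap_zero b, hβ.B_self]
  refine le_trans ?_ (n2b_cnt (h.emb.nd hP) (n := d) (by have := h.finrank_perp; omega) (w := h.emb.r w)
    (b := h.emb.r b) (h.sing_hproj hw wβ) (h.sing_hproj hb bβ) (by rwa [res_B, h.emb_r, h.emb_r, k _ _ bβ wβ]))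
  refine Set.ncard_le_ncard_of_injOn h.emb.r (fun x hx => ⟨h.sing_hproj (hT x hx).1 (hT x hx).2.2, ?_⟩)
    fun x hx y hy e => ?_
  · simp only [res_B, h.emb_r, k _ _ bβ wβ, k _ _ (hT x hx).2.2 wβ, (hT x hx).2.1]
  · have e' : P.hproj β β' x = P.hproj β β' y := congrArg Subtype.val e
    obtain ⟨s, rfl⟩ := mem_span_singleton.1 (hi x hx y hy (by
      rw [← k _ _ (hT x hx).2.2 (hT y hy).2.2, e', k _ _ (hT y hy).2.2 (hT y hy).2.2, (hT y hy).1.B_self]))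
    have : s = 1 := by simpa [(hT x hx).2.1, bw] using (hT _ hy).2.1
    rw [this, one_smul]

theorem n2b_idx (hP : P.ND) {d : ℕ} (hd : finrank F V = d + 2) (h2 : 2 ≤ d) {K : Subgroup P.Iso} {w b β : V}
    {T : Set V} (hw : P.Sing w) (hb : P.Sing b) (bw : P.B b w ≠ 0) (β0 : β ≠ 0) (wβ : P.B w β = 0)
    (bβ : P.B b β = 0) (hT : ∀ x ∈ T, P.Sing x ∧ P.B x β = 0)
    (hc : (∀ x ∈ T, P.B x w ≠ 0 → x ∈ span F {w, b}) ∨
      (P.Sing β ∧ ∀ x ∈ T, ∀ y ∈ T, P.B x w ≠ 0 → P.B y w ≠ 0 → P.B x y = 0 → y ∈ F ∙ x))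
    (h1 : ∀ g ∈ K, g ∈ P.EG → g • w ∈ T) (h3 : ∀ g ∈ K, g ∈ P.EG → g • b ∈ T)
    (h4 : ∀ g ∈ K, g ∈ P.EG → g • w = w → g • b = b → g • β = β) :
    (q ^ 2 - 1) * Iq q (d + 2) ≤ q ^ 2 * K.relIndex P.EG := by
  have hq := two_le_q hF
  have w0 : w ≠ 0 := by rintro rfl; simp at bw
  have wb := B_swap_ne bw
  have h := hyp_of_ne hw hb wb
  have m : β ∈ P.perp {w, frobq hF (P.B w b)⁻¹ • b} :=
    mem_perp_pair.2 ⟨B_swap_zero wβ, by simp [B_swap_zero bβ]⟩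
  have i1 := index_orbit K P.EG w (O := P.sing0 Set.univ)
    (fun z hz => u_vTrans hP (by omega) w z hw hz.2.2 w0 hz.2.1) T.toFinite h1
  have i2 := index_orbit₂ K (stabilizer P.Iso w ⊓ P.EG) b β (O := (fun u : P.Iso => u • b) '' P.U w)
    (T := {x | x ∈ T ∧ P.B x w = P.B b w}) (O' := {x | ∃ g ∈ P.Lv w (frobq hF (P.B w b)⁻¹ • b), g • β = x})
    (T' := {β}) (by
      rintro _ ⟨u, hu, rfl⟩
      exact ⟨u, ⟨(mem_U.1 hu).1, h.U_le_EG hu⟩, rfl⟩) (Set.toFinite _)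
    (fun g a c => ⟨h3 g a c.2, by rw [← B_smul_smul g b w, c.1]⟩) (by
      rintro _ ⟨g, hg, rfl⟩
      obtain ⟨⟨a1, a2⟩, a3⟩ := mem_Lv.1 hg
      exact ⟨g, ⟨a1, a3⟩, by simpa [act_smul, wb] using a2, rfl⟩) (Set.toFinite _)
    fun g a c e => h4 g a c.2 c.1 e
  rw [ncard_sing0 hP hd (by omega)] at i1
  rw [n2b_orbU hP hd hw bw, Set.ncard_singleton, mul_one] at i2
  have t1 : T.ncard ≤ q ^ (2 * d + 2) := by
    refine (Set.ncard_le_ncard (t := (P.perp (F ∙ β : Submodule F V) : Set V)) fun x hx => by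
      rw [perp_span]; exact mem_perp_singleton.2 (hT x hx).2).trans ?_
    have := finrank_perp hP (F ∙ β)
    rw [finrank_span_singleton β0] at this
    rw [← Nat.card_coe_set_eq, SetLike.coe_sort_coe, card_submodule, u_card hF, ← pow_mul]
    exact Nat.pow_le_pow_right (by omega) (by omega)
  have k := n2a_nu hP hd h2 h m β0
  obtain ⟨j, k1, k2⟩ : ∃ j, {x | x ∈ T ∧ P.B x w = P.B b w}.ncard ≤ q ^ (j + 1) ∧ (q ^ 2 - 1) * q ^ j ≤
      {x | ∃ g ∈ P.Lv w (frobq hF (P.B w b)⁻¹ • b), g • β = x}.ncard := by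
    rcases hc with hc | ⟨hβ, hc⟩
    · exact ⟨0, by
        rw [zero_add, pow_one]
        exact n2b_two hw hb bw fun x hx => ⟨(hT x hx.1).1, hx.2, hc x hx.1 (hx.2 ▸ bw)⟩,
        by simpa using k.1⟩
    · obtain ⟨j, rfl⟩ : ∃ j, d = j + 2 := ⟨d - 2, by omega⟩
      refine ⟨2 * j, n2b_mod hP hd hw hb bw hβ β0 wβ bβ (fun x hx => ⟨(hT x hx.1).1, hx.2, (hT x hx.1).2⟩)
        fun x hx y hy => hc x hx.1 y hy.1 (hx.2 ▸ bw) (hy.2 ▸ bw), ?_⟩
      rcases Nat.eq_zero_or_pos j with rfl | j0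
      · simpa using k.1
      · refine (n2b_iq hq j0).trans ?_
        rw [← n2a_sing0 hP hd (by omega) h]
        exact Set.ncard_le_ncard fun x hx => h.exists_Lv (u_vTrans (h.emb.nd hP)
          (by have := h.finrank_perp; omega)) ⟨m, β0, hβ⟩ hx
  have i3 := (Nat.mul_le_mul_left _ k2).trans (i2.trans (Nat.mul_le_mul_left _ k1))
  have i4 := i1.trans (Nat.mul_le_mul_left _ t1)
  rw [show 2 * (d + 2) - 3 = 2 * d + 1 by omega] at i3
  refine Nat.le_of_mul_le_mul_right ?_ (show 0 < q ^ (2 * d + 1) * q ^ j by positivity)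
  calc _ = Iq q (d + 2) * (q ^ (2 * d + 1) * ((q ^ 2 - 1) * q ^ j)) := by ring
    _ ≤ Iq q (d + 2) * (_ * q ^ (j + 1)) := Nat.mul_le_mul_left _ i3
    _ ≤ K.relIndex P.EG * q ^ (2 * d + 2) * q ^ (j + 1) := by
      rw [← mul_assoc]; exact Nat.mul_le_mul_right _ i4
    _ = _ := by ring

/-- the hypotheses `ha`, `hb` of `n2_fin` for non orthogonal centres -/
theorem n2b_ab (hP : P.ND) {n : ℕ} (hn : finrank F V = n) (h6 : 6 ≤ n) (hQ : NoQ H) {e f w1 w2 b β : V} {c : F}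
    (h : P.Hyp e f) (hl : Lf H e f w1 c b) (h2 : w2 ∈ Tc H e f c) (h12 : P.B w2 w1 ≠ 0)
    (hβ : b - β ∈ F ∙ w1) (hT : ∀ x ∈ Tc H e f c, P.B x β = 0)
    (hc : (∀ x ∈ Tc H e f c, P.B x w1 ≠ 0 → x ∈ span F {w1, w2}) ∨ (P.Sing β ∧ ∀ x ∈ Tc H e f c,
      ∀ y ∈ Tc H e f c, P.B x w1 ≠ 0 → P.B y w1 ≠ 0 → P.B x y = 0 → y ∈ F ∙ x)) :
    q * (Tc H e f c).ncard < Iq q (n - 2) ∧
      (q ^ 2 - 1) * Iq q (n - 2) ≤ q ^ 2 * (P.Kc H e).relIndex (P.Lv e f) := by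
  obtain ⟨t, ht⟩ := mem_span_singleton.1 hβ
  have hb : b = β + t • w1 := by rw [ht]; abel
  have βW : β ∈ P.perp {e, f} := by
    simpa [hb] using sub_mem hl.b_mem (smul_mem _ t hl.w_mem)
  have β0 : β ≠ 0 := fun e => hl.not_mem hP h hQ (by simpa [e] using hβ)
  refine ⟨cnt_perp' hP hn (by omega) h βW β0 fun x hx => ⟨Tc_sub hx, hT x hx⟩, ?_⟩
  have hr := h.finrank_perp
  obtain ⟨d, rfl⟩ : ∃ d, n = d + 2 + 2 := ⟨n - 4, by omega⟩
  have w2W := (Tc_sub h2).1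
  refine (n2b_idx (h.emb.nd hP) (d := d) (by omega) (by omega) (K := (P.Kc H e).comap h.emb.ext)
    (w := ⟨w1, hl.w_mem⟩) (b := ⟨w2, w2W⟩) (β := ⟨β, βW⟩) (T := {x | x.1 ∈ Tc H e f c}) hl.sw (Tc_sub h2).2.2 h12
    (fun e => β0 (congrArg Subtype.val e)) (hT w1 ⟨_, hl⟩) (hT w2 h2) (fun x hx => ⟨(Tc_sub hx).2.2, hT _ hx⟩)
    (hc.imp (fun k x a b => ?_) fun k => ⟨k.1, fun x a y b a1 a2 a3 => ?_⟩) (fun g a b => ?_) (fun g a b => ?_)
    fun g a b' e1 e2 => ?_).trans (Nat.mul_le_mul_left _ (h.relIndex_comap_le _))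
  · obtain ⟨s, r, e⟩ := mem_span_pair.1 (k _ a b)
    exact mem_span_pair.2 ⟨s, r, Subtype.ext e⟩
  · obtain ⟨s, e⟩ := mem_span_singleton.1 (k.2 _ a _ b a1 a2 a3)
    exact mem_span_singleton.2 ⟨s, Subtype.ext e⟩
  · have := Tc.act h ⟨_, hl⟩ a (h.ext_mem_Lv b)
    rwa [h.ext_smul_coe g ⟨w1, hl.w_mem⟩] at this
  · have := Tc.act h h2 a (h.ext_mem_Lv b)
    rwa [h.ext_smul_coe g ⟨w2, w2W⟩] at this
  · have e3 : h.emb.ext g • w1 = w1 := by rw [h.ext_smul_coe g ⟨w1, hl.w_mem⟩, e1]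
    have e4 : h.emb.ext g • w2 = w2 := by rw [h.ext_smul_coe g ⟨w2, w2W⟩, e2]
    obtain ⟨s, k⟩ := hl.act h a (h.ext_mem_Lv b')
    rw [e3] at k
    have e5 := k.unique h hQ hl
    rw [hb, smul_add, act_smul, e3, add_right_comm, add_left_inj] at e5
    have e6 := congrArg (P.B · w2) e5
    simp only [map_add, LinearMap.add_apply, B_smul_left] at e6
    rw [← e4, B_smul_smul, e4, add_eq_left, mul_eq_zero, or_iff_left (B_swap_ne h12)] at e6
    exact Subtype.ext (by rw [← h.ext_smul_coe]; simpa [e6] using e5)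

end Cfsg.Agent.UR
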