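import Cfsg.Agent.UR.N2bI

/-! Rank three actions of unitary groups: triangles of centres. -/

set_option autoImplicit false
set_option linter.unusedSectionVars false

namespace Cfsg.Agent.UR

open Module MulAction Submodule Cfsg.Agent.Forms Cfsg.Agent.Polar Cfsg.Agent.Polar.PQ

variable {F : Type*} [Field F] [Fintype F] {q : ℕ} {hF : Fintype.card F = q ^ 2}
variable {V : Type*} [AddCommGroup V] [Module F V] [Finite V] {P : PQ (uFP hF) V} {H : Subgroup P.Iso}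

/-- the structure of a pair of non orthogonal centres -/
structure Pr (P : PQ (uFP hF) V) (c : F) (w1 w2 b1 b2 β : V) (ε s1 s2 : F) : Prop where
  e1 : b1 = β + s1 • w1
  e2 : b2 = ε • β + s2 • w2
  ne : β ≠ 0
  p1 : P.B β w1 = 0
  p2 : P.B β w2 = 0
  sq : ε * ε = 1
  ch : (2 : F) = 0 ∧ ε = 1 ∨ (3 : F) = 0 ∧ ε = -(c * c * (P.B w1 w2 * P.B w2 w1))

theorem n2b_tri {c : F} (hc : c ∈ (uFP hF).Λ) {w1 w2 w3 b1 b2 b3 β β' β'' : V} (i1 : P.Sing w1) (i2 : P.Sing w2)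
    (i3 : P.Sing w3) (h12 : P.B w1 w2 ≠ 0) (h13 : P.B w1 w3 ≠ 0) (h23 : P.B w2 w3 ≠ 0)
    {ε ε' ε'' s1 s2 t1 t3 r2 r3 : F} (a : Pr P c w1 w2 b1 b2 β ε s1 s2) (b : Pr P c w1 w3 b1 b3 β' ε' t1 t3)
    (d : Pr P c w2 w3 b2 b3 β'' ε'' r2 r3) : P.B β w3 = 0 ∧ ε * ε' * ε'' = 1 := by
  have e1 : β' = β + (s1 - t1) • w1 := by linear_combination (norm := module) a.e1 - b.e1
  have e2 : β'' = ε • β + (s2 - r2) • w2 := by linear_combination (norm := module) a.e2 - d.e1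
  have e3 : (ε' - ε'' * ε) • β + (ε' * (s1 - t1)) • w1 - (ε'' * (s2 - r2)) • w2 + (t3 - r3) • w3 = 0 := by
    have := b.e2.symm.trans d.e2
    rw [e1, e2] at this
    linear_combination (norm := module) this
  have k1 := b.p2
  have k2 := d.p2
  rw [e1] at k1
  rw [e2] at k2
  have k3 := congrArg (P.B · w1) e3
  have k4 := congrArg (P.B · w2) e3
  have h21 := B_swap_ne h12
  have h31 := B_swap_ne h13
  have h32 := B_swap_ne h23
  simp only [map_add, map_sub, LinearMap.add_apply, LinearMap.sub_apply, B_smul_left, a.p1, a.p2, i1.B_self,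
    i2.B_self, map_zero, LinearMap.zero_apply, mul_zero, zero_add, add_zero, sub_zero] at k1 k2 k3 k4
  have ε0 : ε ≠ 0 := fun h => by simpa [h] using a.sq
  have ε2 : ε'' ≠ 0 := fun h => by simpa [h] using d.sq
  have hη : ε * ε' * ε'' = 1 := by
    rcases a.ch with ⟨h2, a1⟩ | ⟨h3, a1⟩
    · have n3 : (3 : F) ≠ 0 := fun h => one_ne_zero (α := F) (by linear_combination h - h2)
      rw [a1, (b.ch.resolve_right fun h => n3 h.1).2, (d.ch.resolve_right fun h => n3 h.1).2]; simp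
    have n2 : (2 : F) ≠ 0 := fun h => one_ne_zero (α := F) (by linear_combination h3 - h)
    have b1 := (b.ch.resolve_left fun h => n2 h.1).2
    have d1 := (d.ch.resolve_left fun h => n2 h.1).2
    rcases mul_self_eq_one_iff.1 (show ε * ε' * ε'' * (ε * ε' * ε'') = 1 by
      linear_combination (ε' * ε' * (ε'' * ε'')) * a.sq + (ε'' * ε'') * b.sq + d.sq) with h | h
    · exact h
    exfalso
    have e4 : ε'' * ε = -ε' := by linear_combination ε' * h - (ε * ε'') * b.sq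
    by_cases x0 : P.B β w3 = 0
    · have z1 : s1 - t1 = 0 := by simpa [x0, h13] using k1
      have z2 : s2 - r2 = 0 := by simpa [x0, h23] using k2
      have z3 : t3 - r3 = 0 := by simpa [z2, h31] using k3
      have ε1 : ε' ≠ 0 := fun h => by simpa [h] using b.sq
      rw [z1, z2, z3, e4, sub_neg_eq_add, ← two_mul] at e3
      simp [n2, ε1, a.ne] at e3
    · have hG : P.B w1 w2 * P.B w2 w3 * P.B w3 w1 = P.B w2 w1 * P.B w3 w2 * P.B w1 w3 := by
        refine mul_left_cancel₀ (mul_ne_zero x0 (mul_ne_zero ε0 ε2)) ?_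
        linear_combination (P.B w2 w1 * P.B w3 w2 * P.B w1 w3 * (-ε'')) * k2 -
          (ε' * P.B w1 w2 * P.B w2 w3 * P.B w3 w1) * k1 + (P.B w1 w3 * P.B w2 w3 * P.B w3 w1) * k4 -
          (P.B w1 w3 * P.B w2 w3 * P.B w3 w2) * k3 + (P.B β w3 * P.B w1 w2 * P.B w2 w3 * P.B w3 w1) * e4
      have hτ : frobq hF (c ^ 3 * (P.B w1 w2 * P.B w2 w3 * P.B w3 w1)) =
          -(c ^ 3 * (P.B w1 w2 * P.B w2 w3 * P.B w3 w1)) := by
        simp only [map_mul, map_pow, ← u_swap, u_lam_tau hc]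
        linear_combination (c ^ 3) * hG
      rcases mul_self_eq_one_iff.1 (show c ^ 3 * (P.B w1 w2 * P.B w2 w3 * P.B w3 w1) *
          (c ^ 3 * (P.B w1 w2 * P.B w2 w3 * P.B w3 w1)) = 1 by
        rw [a1, b1, d1] at h
        linear_combination (c ^ 6 * (P.B w1 w2 * P.B w2 w3 * P.B w3 w1)) * hG - h) with h | h
      · rw [h, map_one] at hτ
        exact n2 (by linear_combination hτ)
      · rw [h, map_neg, map_one] at hτ
        exact n2 (by linear_combination -hτ)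
  refine ⟨?_, hη⟩
  have e4 : ε' - ε'' * ε = 0 := by linear_combination (ε'' * ε) * b.sq - ε' * hη
  by_cases z3 : t3 - r3 = 0
  · have z2 : s2 - r2 = 0 := by simpa [z3, h21, ε2] using k3
    simpa [z2, ε0] using k2
  · generalize t3 - r3 = z at *
    simpa [e4, a.p1, a.p2, z3] using congrArg (P.B β) e3

/-- the facts on pairs of centres used below -/
structure N2I (H : Subgroup P.Iso) (e f : V) (c : F) : Prop where
  pair : ∀ {w1 w2 b1 b2 : V}, Lf H e f w1 c b1 → Lf H e f w2 c b2 → P.B w1 w2 ≠ 0 →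
    ∃ β ε s1 s2, Pr P c w1 w2 b1 b2 β ε s1 s2
  clique : ∀ {w1 w2 w3 b1 b2 b3 : V}, Lf H e f w1 c b1 → Lf H e f w2 c b2 → Lf H e f w3 c b3 →
    P.B w1 w2 ≠ 0 → P.B w1 w3 ≠ 0 → P.B w2 w3 = 0 → w3 ∈ F ∙ w2

variable {e f : V} {c : F}

theorem N2I.tri (I : N2I H e f c) {w1 w2 w3 b1 b2 b3 β : V} (l1 : Lf H e f w1 c b1) (l2 : Lf H e f w2 c b2)
    (l3 : Lf H e f w3 c b3) (h12 : P.B w1 w2 ≠ 0) (h13 : P.B w1 w3 ≠ 0) (h23 : P.B w2 w3 ≠ 0) {ε s1 s2 : F}
    (a : Pr P c w1 w2 b1 b2 β ε s1 s2) : P.B β w3 = 0 ∧ ((3 : F) = 0 →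
      ε * (c * c * (P.B w1 w3 * P.B w3 w1)) * (c * c * (P.B w2 w3 * P.B w3 w2)) = 1 ∧
      (c * c * (P.B w1 w3 * P.B w3 w1)) ^ 2 = 1) := by
  obtain ⟨_, _, _, _, b⟩ := I.pair l1 l3 h13
  obtain ⟨_, _, _, _, d⟩ := I.pair l2 l3 h23
  obtain ⟨k1, k2⟩ := n2b_tri l1.lam l1.sw l2.sw l3.sw h12 h13 h23 a b d
  refine ⟨k1, fun h3 => ?_⟩
  have n2 : (2 : F) ≠ 0 := fun h => one_ne_zero (α := F) (by linear_combination h3 - h)
  have k3 := b.sq
  rw [(b.ch.resolve_left fun h => n2 h.1).2] at k2 k3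
  rw [(d.ch.resolve_left fun h => n2 h.1).2] at k2
  exact ⟨by linear_combination k2, by linear_combination k3⟩

theorem N2I.three (I : N2I H e f c) (h : P.Hyp e f) (h3 : (3 : F) = 0) {w1 w2 w3 b1 b2 b3 : V}
    (l1 : Lf H e f w1 c b1) (l2 : Lf H e f w2 c b2) (l3 : Lf H e f w3 c b3) (h12 : P.B w1 w2 ≠ 0)
    (h13 : P.B w1 w3 ≠ 0) : w3 ∈ span F {w1, w2} := by
  have n2 : (2 : F) ≠ 0 := fun h => one_ne_zero (α := F) (by linear_combination h3 - h)
  have k : ∀ {s : F} {b : V}, Lf H e f (w3 + s • w1) c b → P.B w2 (w3 + s • w1) = 0 → w3 ∈ span F {w1, w2} :=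
    fun {s b} l e => by
      simpa using sub_mem (span_mono (by simp) (I.clique l1 l2 l h12 (by simpa [l1.sw.B_self] using h13) e) :
        _ ∈ span F {w1, w2}) (smul_mem _ s (n1_left w1 w2))
  by_contra hn
  obtain ⟨β, ε, s1, s2, a⟩ := I.pair l1 l2 h12
  have a1 := (a.ch.resolve_left fun h => n2 h.1).2
  have t : ∀ {s : F} {b : V}, Lf H e f (w3 + s • w1) c b →
      ε * (c * c * (P.B w1 w3 * P.B w3 w1)) * (c * c * ((P.B w2 w3 + frobq hF s * P.B w2 w1) *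
        (P.B w3 w2 + s * P.B w1 w2))) = 1 ∧ (c * c * (P.B w1 w3 * P.B w3 w1)) ^ 2 = 1 := fun {s b} l => by
    simpa [l1.sw.B_self] using (I.tri l1 l2 l h12 (by simpa [l1.sw.B_self] using h13) (fun e => hn (k l e)) a).2 h3
  obtain ⟨b4, l4⟩ := Tc.act h ⟨_, l3⟩ (l1.mem_Kc h) l1.cy.mem
  obtain ⟨b5, l5⟩ := Tc.act h ⟨_, l3⟩ (l1.inv.mem_Kc h) l1.inv.cy.mem
  rw [l1.tv, sub_eq_add_neg, ← neg_smul] at l4
  rw [l1.inv.tv, sub_eq_add_neg, ← neg_smul] at l5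
  have t0 := t (s := 0) (b := b3) (by simpa using l3)
  have t4 := (t l4).1
  have t5 := (t l5).1
  have sq := a.sq
  simp only [map_neg, map_mul, map_zero, u_lam_tau l1.lam, ← u_swap] at t0 t4 t5
  refine n2 ?_
  linear_combination t4 + t5 - 2 * t0.1 + (2 * ε * (c * c * (P.B w1 w3 * P.B w3 w1)) ^ 2) * a1 -
    (2 * (c * c * (P.B w1 w3 * P.B w3 w1)) ^ 2) * sq - 2 * t0.2

/-- the hypotheses `ha`, `hb` of `n2_fin` for two non orthogonal centres -/
theorem N2I.main (I : N2I H e f c) (hP : P.ND) {n : ℕ} (hn : finrank F V = n) (h6 : 6 ≤ n) (hQ : NoQ H)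
    (h : P.Hyp e f) {w1 w2 : V} (h1 : w1 ∈ Tc H e f c) (h2 : w2 ∈ Tc H e f c) (h12 : P.B w1 w2 ≠ 0) :
    q * (Tc H e f c).ncard < Iq q (n - 2) ∧
      (q ^ 2 - 1) * Iq q (n - 2) ≤ q ^ 2 * (P.Kc H e).relIndex (P.Lv e f) := by
  obtain ⟨b1, l1⟩ := h1
  obtain ⟨b2, l2⟩ := h2
  obtain ⟨β, ε, s1, s2, a⟩ := I.pair l1 l2 h12
  have ε0 : ε ≠ 0 := fun h => by simpa [h] using a.sq
  refine n2b_ab hP hn h6 hQ h l1 ⟨_, l2⟩ (B_swap_ne h12) (β := β) (mem_span_singleton.2 ⟨s1, by simp [a.e1]⟩)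
    (fun x ⟨b, l⟩ => B_swap_zero ?_) (a.ch.symm.imp (fun k x ⟨b, l⟩ hx => I.three h k.1 l1 l2 l h12 (B_swap_ne hx))
      fun k => ⟨?_, fun x ⟨b, l⟩ y ⟨b', l'⟩ hx hy => I.clique l1 l l' (B_swap_ne hx) (B_swap_ne hy)⟩)
  · by_cases x1 : P.B w1 x = 0
    · by_cases m : x ∈ F ∙ w1
      · exact B_swap_zero (n1_B_span (by simpa using B_swap_zero a.p1) m)
      · simpa [a.e1, x1] using l1.comm h hQ l x1 m
    by_cases x2 : P.B w2 x = 0
    · by_cases m : x ∈ F ∙ w2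
      · exact B_swap_zero (n1_B_span (by simpa using B_swap_zero a.p2) m)
      · simpa [a.e2, x2, ε0] using l2.comm h hQ l x2 m
    exact (I.tri l1 l2 l h12 x1 x2 a).1
  · have := (l1.two h hQ k.1).2.B_self
    rw [a.e1] at this
    exact u_sing_iff.2 (by simpa [a.p1, B_swap_zero a.p1, l1.sw.B_self] using this)

end Cfsg.Agent.UR
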