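import Cfsg.Agent.UR.IB
import Cfsg.Agent.UR.N3Ar

/-! Rank three actions of unitary groups: the case without centres. -/

set_option autoImplicit false
set_option linter.unusedSectionVars false

namespace Cfsg.Agent.UR

open Module MulAction Cfsg.Agent.Forms Cfsg.Agent.Polar Cfsg.Agent.Polar.PQ

theorem n3_Iq {q : ℕ} (hq : 1 ≤ q) (d : ℕ) : (Iq q (d + 1) : ℤ) = (q ^ (d + 1) + (-1) ^ d) * (q ^ d - (-1) ^ d) := by
  have h2 : 1 ≤ q ^ d := Nat.one_le_pow _ _ hq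
  have h3 : 1 ≤ q ^ (d + 1) := Nat.one_le_pow _ _ hq
  unfold Iq
  split_ifs with he
  · rw [(Nat.not_even_iff_odd.1 (Nat.even_add_one.1 he)).neg_one_pow]
    push_cast [h3]; ring
  · rw [(not_not.1 (Nat.even_add_one.not.1 he)).neg_one_pow, Nat.add_sub_cancel]
    push_cast [h2]; ring

theorem n3_ar {q n k m l c v : ℕ} (hq : 3 ≤ q) (h6 : 6 ≤ n) (hk : k * m * (q + 1) = Iq q n)
    (hl : l * c * ((q + 1) ^ 2 * (q - 1)) = q * Iq q n * Iq q (n - 2)) (hv : v = 1 + k + l)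
    (h : l * (q ^ 2 - q) ≤ k ^ 2) (hd : q ^ (3 * n - 6) ∣ v) (h1 : n = 6 → (q + 1) * q ^ 12 ≤ v)
    (h2 : 7 ≤ n → q ^ (4 * n - 10) ≤ v) : False := by
  obtain ⟨d, rfl⟩ : ∃ d, n = d + 3 := ⟨n - 3, by omega⟩
  obtain ⟨t, ht⟩ := hd
  have q1 : 1 ≤ q := by omega
  have q2 : q ≤ q ^ 2 := Nat.le_self_pow (by omega) q
  have e1 := n3_Iq q1 (d + 2)
  have e2 := n3_Iq q1 d
  rw [show d + 3 - 2 = d + 1 from rfl] at hl
  rw [show 3 * (d + 3) - 6 = (d + 1) * 3 by omega] at ht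
  subst hv
  zify [q1, q2] at hk hl h ht hq
  rw [e1] at hk hl
  rw [e2] at hl
  refine n3ar_int (q := q) (y := q ^ (d + 1)) (ε := -(-1) ^ d) (k := k) (l := l) (m := m) (c := c) (t := t) hq
    (by rw [neg_mul_neg, ← mul_pow]; simp) (by positivity) (by positivity) (by positivity) (by linear_combination hk)
    (by linear_combination hl) (by linear_combination -ht) h ?_
  rcases h6.eq_or_lt with h3 | h3
  · obtain rfl : d = 3 := by omega
    exact Or.inl ⟨rfl, by norm_num, by exact_mod_cast h1 rfl⟩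
  · refine Or.inr ⟨?_, ?_⟩
    · have := Nat.mul_le_mul_left (q ^ 2) (h2 h3)
      rw [← pow_add, show 2 + (4 * (d + 3) - 10) = (d + 1) * 4 by omega, pow_mul] at this
      exact_mod_cast this
    · rcases (show 4 ≤ d by omega).eq_or_lt with rfl | h4
      · exact Or.inl ⟨rfl, by norm_num⟩
      · exact Or.inr ⟨pow_le_pow_right₀ (by omega) (by omega), dvd_pow_self _ (by omega)⟩

variable {F : Type*} [Field F] [Fintype F] {q : ℕ} {hF : Fintype.card F = q ^ 2}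
  {V : Type*} [AddCommGroup V] [Module F V] [Finite V] {P : PQ (uFP hF) V} {H : Subgroup P.Iso} {n : ℕ}
  {X : Type*} [Finite X] [MulAction P.EG X] {x : X}

theorem n3_resT {u : V} (h : ∀ w, ¬ Cen H u w) : ResT H u = ∅ := Set.eq_empty_iff_forall_notMem.2 <| by
  rintro g ⟨hg, w, c, h1, h2, h3, h4, h5, h6⟩
  exact h w ⟨h1, h2, h3, c, h4, h5, _, h6, by simpa using hg⟩

theorem n3_of (hP : P.ND) (hn : finrank F V = n) (h6 : 6 ≤ n) (hq : 3 ≤ q) (R : Rk3 P x) (hQ : NoQ (Hx P x))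
    (h : ∀ u w, ¬ Cen (Hx P x) u w) (H : ∃ k lam l c : ℕ, k * lam * (q + 1) = Iq q n ∧
      l * c * ((q + 1) ^ 2 * (q - 1)) = q * Iq q n * Iq q (n - 2) ∧ Nat.card X = 1 + k + l ∧ l * (q ^ 2 - q) ≤ k ^ 2) :
    False := by
  obtain ⟨k, m, l, c, h1, h2, h3, h4⟩ := H
  exact n3_ar hq h6 h1 h2 h3 h4 (ib_dvd hP hn (by omega) R hQ h) (ib_low hP hn h6 R hQ h).1 (ib_low hP hn h6 R hQ h).2

end Cfsg.Agent.UR
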