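import Cfsg.Agent.UR.Base

/-! Partial ovoids of centres of transvections in characteristic two. -/

set_option autoImplicit false
set_option linter.unusedSectionVars false

namespace Cfsg.Agent.UR

open Module MulAction Cfsg.Agent.Forms Cfsg.Agent.Polar Cfsg.Agent.Polar.PQ

/-- involutions with one fixed point each in a Frobenius-like action generate a dihedral group -/
theorem Ov2.grp {T M : Type*} [Monoid T] [MulAction T M] (G : Submonoid T) {Ω : Set M} (hΩ : Ω.Finite)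
    (r : M → T) (hG : ∀ a ∈ Ω, r a ∈ G) (hm : ∀ g ∈ G, ∀ a ∈ Ω, g • a ∈ Ω)
    (h1 : ∀ a ∈ Ω, r a • a = a) (h3 : ∀ a ∈ Ω, r a ≠ 1)
    (hf : ∀ g ∈ G, ∀ a ∈ Ω, ∀ b ∈ Ω, a ≠ b → g • a = a → g • b = b → g = 1)
    (hs : ∀ g ∈ G, ∀ a ∈ Ω, g • a = a → g * g = 1) {a b c : M} (ha : a ∈ Ω) (hb : b ∈ Ω) (hc : c ∈ Ω)
    (hab : r b * r a * (r b * r a) ≠ 1) : r b * r a * r c * (r b * r a * r c) = 1 := by
  have rr : ∀ a ∈ Ω, r a * r a = 1 := fun a ha => hs _ (hG a ha) a ha (h1 a ha)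
  have one : ∀ a ∈ Ω, ∀ b ∈ Ω, r a • b = b → a = b := fun a ha b hb h => by
    by_contra hn
    exact h3 a ha (hf _ (hG a ha) a ha b hb hn (h1 a ha) h)
  have uq : ∀ g ∈ G, g * g = 1 → ∀ k ∈ G, k * k = 1 → ∀ a ∈ Ω, g • a = k • a → g • a ≠ a → g = k := by
    intro g hg g2 k hk k2 a ha e hn
    have := hf _ (G.mul_mem hg hk) _ (hm g hg a ha) a ha hn
      (by rw [mul_smul, e, smul_smul k, k2, one_smul, e]) (by rw [mul_smul, ← e, smul_smul, g2, one_smul])
    calc g = g * k * k := by rw [mul_assoc, k2, mul_one]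
      _ = k := by rw [this, one_mul]
  have sj : ∀ a ∈ Ω, ∀ c ∈ Ω, ∃ b ∈ Ω, r b • a = c := fun a ha =>
    ((hΩ.injOn_iff_bijOn_of_mapsTo (f := fun b => r b • a) fun b hb => hm _ (hG b hb) a ha).1
      fun b hb d hd e => by
        by_cases h : r b • a = a
        · exact (one b hb a ha h).trans (one d hd a ha (e.symm.trans h)).symm
        · exact one b hb d hd (by rw [uq _ (hG b hb) (rr b hb) _ (hG d hd) (rr d hd) a ha e h, h1 d hd])).surjOn
  obtain ⟨a', ha', hac⟩ : ∃ a' ∈ Ω, a' ≠ c := by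
    by_cases h : a = c
    · exact ⟨b, hb, fun e => hab (by rw [h, e, rr c hc, one_mul])⟩
    · exact ⟨a, ha, h⟩
  have hg : r b * r a * r c ∈ G := G.mul_mem (G.mul_mem (hG b hb) (hG a ha)) (hG c hc)
  obtain ⟨d, hd, e⟩ := sj c hc _ (hm _ hg c hc)
  have hk := G.mul_mem (hG d hd) hg
  have k1 : (r d * (r b * r a * r c)) • c = c := by rw [mul_smul, ← e, smul_smul, rr d hd, one_smul]
  have k2 : ∀ g, r d * g = 1 → g * g = 1 := fun g h => by
    rw [show g = r d by rw [← one_mul g, ← rr d hd, mul_assoc, h, mul_one], rr d hd]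
  by_cases h : (r d * (r b * r a * r c)) • a' = a'
  · exact k2 _ (hf _ hk a' ha' c hc hac h k1)
  obtain ⟨d', hd', e'⟩ := sj a' ha' _ (hm _ hk a' ha')
  have k3 := uq _ hk (hs _ hk c hc k1) _ (hG d' hd') (rr d' hd') a' ha' e'.symm h
  rw [k3] at k1
  rw [one d' hd' c hc k1] at k3
  refine (hab (k2 _ ?_)).elim
  calc r d * (r b * r a) = r d * (r b * r a * r c) * r c := by
        rw [mul_assoc, mul_assoc (r b * r a), rr c hc, mul_one]
    _ = 1 := by rw [k3, rr c hc]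

section
variable {F : Type*} [Field F] (α β γ : F)

/-- the alternating form on three-space -/
def Ov2.bf (v w : Fin 3 → F) : F :=
  α * (v 0 * w 1 + v 1 * w 0) + β * (v 0 * w 2 + v 2 * w 0) + γ * (v 1 * w 2 + v 2 * w 1)

/-- reflections -/
def Ov2.rf (a : Fin 3 → F) : Module.End F (Fin 3 → F) where
  toFun x := x + Ov2.bf α β γ x a • a
  map_add' x y := by ext i; simp [Ov2.bf]; ring
  map_smul' c x := by ext i; simp [Ov2.bf]; ring

theorem Ov2.rf_smul (a x : Fin 3 → F) : Ov2.rf α β γ a • x = x + Ov2.bf α β γ x a • a := rfl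

theorem Ov2.rf_apply (a x : Fin 3 → F) : Ov2.rf α β γ a x = x + Ov2.bf α β γ x a • a := rfl

theorem Ov2.cramer (h2 : (2 : F) = 0) (a b x : Fin 3 → F) : ∃ κ : F, Ov2.bf α β γ a b • x =
    Ov2.bf α β γ x b • a + Ov2.bf α β γ a x • b + κ • (![γ, β, α] : Fin 3 → F) :=
  ⟨a 0 * (b 1 * x 2 + b 2 * x 1) + a 1 * (b 0 * x 2 + b 2 * x 0) + a 2 * (b 0 * x 1 + b 1 * x 0), by
    ext i; fin_cases i <;> simp [Ov2.bf] <;> grind⟩

theorem Ov2.bf_rf (h2 : (2 : F) = 0) (a v w : Fin 3 → F) :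
    Ov2.bf α β γ (Ov2.rf α β γ a v) (Ov2.rf α β γ a w) = Ov2.bf α β γ v w := by
  simp [Ov2.rf_apply, Ov2.bf]; grind

theorem Ov2.rf_rad (h2 : (2 : F) = 0) (a : Fin 3 → F) : Ov2.rf α β γ a ![γ, β, α] = ![γ, β, α] := by
  ext i; fin_cases i <;> simp [Ov2.rf_apply, Ov2.bf] <;> grind

theorem Ov2.two (hα : α ≠ 0) : Ov2.rf α β γ ![0, 1, 0] * Ov2.rf α β γ ![1, 0, 0] *
    (Ov2.rf α β γ ![0, 1, 0] * Ov2.rf α β γ ![1, 0, 0]) ≠ 1 := fun e => by
  have := congrFun (congrArg (· • (![1, 0, 0] : Fin 3 → F)) e) 0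
  simp [Ov2.rf_apply, Ov2.bf] at this
  grind

theorem Ov2.three (h2 : (2 : F) = 0) (hα : α ≠ 0) (hβ : β ≠ 0) :
    Ov2.rf α β γ ![0, 1, 0] * Ov2.rf α β γ ![1, 0, 0] * Ov2.rf α β γ ![0, 0, 1] *
    (Ov2.rf α β γ ![0, 1, 0] * Ov2.rf α β γ ![1, 0, 0] * Ov2.rf α β γ ![0, 0, 1]) ≠ 1 := fun e => by
  have k := congrFun (congrArg (· • (![0, 0, 1] : Fin 3 → F)) e)
  have k0 := k 0
  have k2 := k 2
  clear k e
  simp [Ov2.rf_apply, Ov2.bf] at k0 k2
  grind

open Ov2 in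
theorem Ov2.core [Finite F] (h2 : (2 : F) = 0) (hα : α ≠ 0) (hβ : β ≠ 0) {Ω : Set (Fin 3 → F)}
    (e0 : ![1, 0, 0] ∈ Ω) (e1 : ![0, 1, 0] ∈ Ω) (e2 : ![0, 0, 1] ∈ Ω)
    (hr : ∀ a ∈ Ω, ∀ b ∈ Ω, b + bf α β γ b a • a ∈ Ω)
    (hO : ∀ a ∈ Ω, ∀ b ∈ Ω, bf α β γ a b = 0 → a = b) : False := by
  let G : Submonoid (Module.End F (Fin 3 → F)) :=
    { carrier := {g | (∀ v w, bf α β γ (g v) (g w) = bf α β γ v w) ∧ g ![γ, β, α] = ![γ, β, α] ∧
        ∀ a ∈ Ω, g a ∈ Ω}
      mul_mem' := fun {g k} hg hk => ⟨fun v w => by simp [hg.1, hk.1], by simp [hg.2.1, hk.2.1],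
        fun a ha => hg.2.2 _ (hk.2.2 a ha)⟩
      one_mem' := ⟨fun _ _ => rfl, rfl, fun _ h => h⟩ }
  have aa : ∀ a, bf α β γ a a = 0 := fun a => by
    simp only [bf]; linear_combination (α * a 0 * a 1 + β * a 0 * a 2 + γ * a 1 * a 2) * h2
  have hf : ∀ g ∈ G, ∀ a ∈ Ω, ∀ b ∈ Ω, a ≠ b → g • a = a → g • b = b → g = 1 := by
    intro g hg a ha b hb hn h h'
    refine LinearMap.ext fun x => smul_right_injective _ (mt (hO a ha b hb) hn) ?_
    obtain ⟨κ, e⟩ := cramer α β γ h2 a b x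
    change g a = a at h
    change g b = b at h'
    simp only [Module.End.one_apply]
    rw [← map_smul, e]
    simp only [map_add, map_smul, h, h', hg.2.1]
  have ne : ∀ a, ∃ b ∈ Ω, b ≠ a := fun a => by
    by_cases h : ![1, 0, 0] = a
    · exact ⟨_, e1, fun e => by simpa using congrFun (h.trans e.symm) 0⟩
    · exact ⟨_, e0, h⟩
  refine three α β γ h2 hα hβ <| Ov2.grp G (Set.toFinite Ω) (rf α β γ)
    (fun a ha => ⟨bf_rf α β γ h2 a, rf_rad α β γ h2 a, fun b hb => hr a ha b hb⟩)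
    (fun g hg a ha => hg.2.2 a ha) (fun a _ => by rw [rf_smul, aa]; simp) (fun a ha e => ?_) hf
    (fun g hg a ha h => ?_) e0 e1 e2 (two α β γ hα)
  · obtain ⟨b, hb, hn⟩ := ne a
    have := congrArg (· • b) e
    simp only [rf_smul, one_smul, add_eq_left, smul_eq_zero] at this
    refine hn (hO b hb a ha (this.elim id fun e => ?_))
    simp [e, bf]
  · obtain ⟨b, hb, hn⟩ := ne a
    refine hf _ (G.mul_mem hg hg) a ha b hb hn.symm (by rw [mul_smul, h, h]) ?_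
    refine smul_right_injective _ (mt (hO a ha b hb) hn.symm) ?_
    obtain ⟨κ, e⟩ := cramer α β γ h2 a b (g b)
    change g a = a at h
    have k : bf α β γ a (g b) = bf α β γ a b := by rw [← hg.1 a b, h]
    change _ • g (g b) = _ • b
    rw [← map_smul, e, k]
    simp only [map_add, map_smul, h, hg.2.1]
    rw [e, k]
    ext i
    simp only [Pi.add_apply, Pi.smul_apply, smul_eq_mul]
    linear_combination (bf α β γ (g b) b * a i + κ * (![γ, β, α] : Fin 3 → F) i) * h2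

end

variable {F : Type*} [Field F] [Fintype F] {q : ℕ} {hF : Fintype.card F = q ^ 2}
variable {V : Type*} [AddCommGroup V] [Module F V] {P : PQ (uFP hF) V} {H : Subgroup P.Iso}

open Ov2 in
theorem Ov2.normed (h2 : (2 : F) = 0) (hO : ∀ a b, InS H a → InS H b → P.B a b = 0 → b ∈ F ∙ a)
    {x0 x1 x2 : V} (s0 : P.Sing x0) (s1 : P.Sing x1) (s2 : P.Sing x2) (t0 : P.eich x0 0 1 ∈ H)
    (t1 : P.eich x1 0 1 ∈ H) (t2 : P.eich x2 0 1 ∈ H)
    (hli : ∀ a b c : F, a • x0 + b • x1 + c • x2 = 0 → a = 0 ∧ b = 0 ∧ c = 0)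
    (f01 : frobq hF (P.B x0 x1) = P.B x0 x1) (f02 : frobq hF (P.B x0 x2) = P.B x0 x2)
    (f12 : frobq hF (P.B x1 x2) = P.B x1 x2) (h01 : P.B x0 x1 ≠ 0) (h02 : P.B x0 x2 ≠ 0) : False := by
  set α := P.B x0 x1 with hα
  set β := P.B x0 x2 with hβ
  set γ := P.B x1 x2 with hγ
  let ι : (Fin 3 → F) → V := fun v => v 0 • x0 + v 1 • x1 + v 2 • x2
  let Q : (Fin 3 → F) → F := fun v =>
    v 0 ^ 2 + v 1 ^ 2 + v 2 ^ 2 + α * v 0 * v 1 + β * v 0 * v 2 + γ * v 1 * v 2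
  have l1 : (1 : F) ∈ (uFP hF).Λ := u_mem_lam_iff.2 (by rw [map_one]; linear_combination h2)
  have hB : ∀ v w : Fin 3 → F, (∀ i, frobq hF (w i) = w i) → P.B (ι v) (ι w) = bf α β γ v w := by
    intro v w hw
    simp only [ι, bf, map_add, LinearMap.add_apply, B_smul_left, B_smul_right, hw, u_sing_iff.1 s0,
      u_sing_iff.1 s1, u_sing_iff.1 s2, u_swap x0 x1, u_swap x0 x2, u_swap x1 x2, ← hα, ← hβ, ← hγ,
      f01, f02, f12]
    ring
  have hs : ∀ v : Fin 3 → F, (∀ i, frobq hF (v i) = v i) → P.Sing (ι v) := fun v hv => by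
    rw [u_sing_iff, hB v v hv, bf]
    linear_combination (α * v 0 * v 1 + β * v 0 * v 2 + γ * v 1 * v 2) * h2
  have hS : ∀ v : Fin 3 → F, (∀ i, frobq hF (v i) = v i) → Q v = 1 → P.eich (ι v) 0 1 ∈ H →
      InS H (ι v) := fun v hv hQ ht => ⟨hs v hv, fun e => by
    obtain ⟨a, b, c⟩ := hli _ _ _ e
    simp [Q, a, b, c] at hQ, 1, l1, one_ne_zero, ht⟩
  refine core α β γ h2 h01 h02
    (Ω := {v | (∀ i, frobq hF (v i) = v i) ∧ Q v = 1 ∧ P.eich (ι v) 0 1 ∈ H})
    ⟨fun i => by fin_cases i <;> simp, by simp [Q], by simpa [ι] using t0⟩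
    ⟨fun i => by fin_cases i <;> simp, by simp [Q], by simpa [ι] using t1⟩
    ⟨fun i => by fin_cases i <;> simp, by simp [Q], by simpa [ι] using t2⟩
    (fun a ha b hb => ⟨fun i => ?_, ?_, ?_⟩) fun a ha b hb h => ?_
  · simp [bf, ha.1, hb.1, f01, f02, f12]
  · have := ha.2.1
    have := hb.2.1
    simp only [Q, bf, Pi.add_apply, Pi.smul_apply, smul_eq_mul] at *
    clear_value α β γ
    clear hS hs hB hli hO
    grind
  · have := mul_mem (mul_mem ha.2.2 hb.2.2) (inv_mem ha.2.2)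
    rw [conj_tv (hs b hb.1) l1, tv_smul (hs a ha.1) l1, hB b a ha.1] at this
    convert this using 2
    simp only [ι, Pi.add_apply, Pi.smul_apply, smul_eq_mul]
    rw [one_mul, sub_eq_add_neg, ← neg_smul, show -bf α β γ b a = bf α β γ b a by
      linear_combination (-bf α β γ b a) * h2]
    module
  · obtain ⟨t, e⟩ := Submodule.mem_span_singleton.1
      (hO _ _ (hS a ha.1 ha.2.1 ha.2.2) (hS b hb.1 hb.2.1 hb.2.2) ((hB a b hb.1).trans h))
    obtain ⟨k0, k1, k2⟩ := hli (t * a 0 - b 0) (t * a 1 - b 1) (t * a 2 - b 2)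
      (by rw [← sub_eq_zero] at e; rw [← e]; simp only [ι]; module)
    have q1 := ha.2.1
    have q2 := hb.2.1
    rw [sub_eq_zero] at k0 k1 k2
    simp only [Q, ← k0, ← k1, ← k2] at q1 q2
    have : t = 1 := by
      rw [← sub_eq_zero, ← pow_eq_zero_iff two_ne_zero]
      linear_combination q2 - t ^ 2 * q1 + (1 - t) * h2
    ext i; fin_cases i <;> simp [← k0, ← k1, ← k2, this]

theorem Ov2.scale (h2 : (2 : F) = 0) {x : V} (h : InS H x) {z : F} (hz : z ≠ 0) :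
    ∃ a : F, a ≠ 0 ∧ P.eich (a • x) 0 1 ∈ H ∧ frobq hF (frobq hF a * z) = frobq hF a * z := by
  obtain ⟨hx, -, c, hc, c0, hH⟩ := h
  have l1 : (1 : F) ∈ (uFP hF).Λ := u_mem_lam_iff.2 (by rw [map_one]; linear_combination h2)
  have fc : frobq hF c = c := by rw [u_lam_tau hc]; linear_combination (-c) * h2
  have z0 : frobq hF z ≠ 0 := (map_ne_zero _).2 hz
  have inj : ∀ a b : F, a * a = b * b → a = b := fun a b h => by
    rw [← sub_eq_zero, ← pow_eq_zero_iff two_ne_zero]; linear_combination h + (b * b - a * b) * h2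
  obtain ⟨s, hs⟩ := Finite.surjective_of_injective (f := fun a : F => a * a) inj (c / (z * frobq hF z))
  have fs : frobq hF s = s := inj _ _ (by
    simp only at hs; rw [← map_mul, hs, map_div₀, map_mul, fc, frobq_frobq, mul_comm])
  simp only at hs
  have s0 : s ≠ 0 := fun e => div_ne_zero c0 (mul_ne_zero hz z0) (by rw [← hs, e, mul_zero])
  refine ⟨s * z, mul_ne_zero s0 hz, ?_, by simp only [map_mul, fs, frobq_frobq]; ring⟩
  rwa [transvec_smul hx l1, show s * z * frobq hF (s * z) * 1 = c by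
    rw [map_mul, fs]; field_simp at hs; linear_combination hs]

/-- step (2) of the ovoid argument, characteristic two -/
theorem ov_two (h2 : (2 : F) = 0) (hO : ∀ a b, InS H a → InS H b → P.B a b = 0 → b ∈ F ∙ a)
    {x0 x1 y : V} {s t : F} (h0 : InS H x0) (h1 : InS H x1) (hx : InS H (s • x0 + t • x1 + y))
    (h01 : P.B x0 x1 ≠ 0) (_hs : s ≠ 0) (ht : t ≠ 0) (hy0 : P.B y x0 = 0) (hy1 : P.B y x1 = 0)
    (hy : P.Sing y) : y = 0 := by
  by_contra y0
  have b0 := u_sing_iff.1 h0.1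
  have b1 := u_sing_iff.1 h1.1
  have b2 := u_sing_iff.1 hx.1
  have h10 := B_swap_ne h01
  have tt : frobq hF t ≠ 0 := (map_ne_zero _).2 ht
  obtain ⟨a, a0, ta, -⟩ := Ov2.scale h2 h0 one_ne_zero
  obtain ⟨b, b0', tb, fb⟩ := Ov2.scale h2 h1 (mul_ne_zero a0 h01)
  obtain ⟨c, c0, tc, fc⟩ := Ov2.scale h2 hx (mul_ne_zero a0 (mul_ne_zero tt h01))
  have k02 : P.B x0 (s • x0 + t • x1 + y) = frobq hF t * P.B x0 x1 := by
    simp [b0, B_swap_zero hy0]
  have k12 : P.B x1 (s • x0 + t • x1 + y) = frobq hF s * P.B x1 x0 := by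
    simp [b1, B_swap_zero hy1]
  refine Ov2.normed h2 hO (h0.1.smul a) (h1.1.smul b) (hx.1.smul c) ta tb tc (fun u v w e => ?_)
    (by rwa [B_smul_left, B_smul_right, mul_left_comm])
    (by rwa [B_smul_left, B_smul_right, mul_left_comm, k02]) ?_
    (by simp [a0, b0', h01]) (by rw [B_smul_left, B_smul_right, k02]; simp [*])
  · have e0 := congrArg (P.B · x0) e
    have e1 := congrArg (P.B · x1) e
    simp only [map_add, LinearMap.add_apply, B_smul_left, b0, b1, hy0, hy1, map_zero,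
      LinearMap.zero_apply] at e0 e1
    have f0 : v * b + w * c * t = 0 := mul_right_cancel₀ h10 (by linear_combination e0)
    have f1 : u * a + w * c * s = 0 := mul_right_cancel₀ h01 (by linear_combination e1)
    have hw : (w * c) • y = 0 := by
      rw [← e, ← sub_eq_zero, show (w * c) • y - (u • a • x0 + v • b • x1 + w • c • (s • x0 + t • x1 + y)) =
        -((u * a + w * c * s) • x0 + (v * b + w * c * t) • x1) by module, f0, f1]
      simp
    have w0 : w = 0 := by simpa [c0, y0] using hw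
    exact ⟨by simpa [w0, a0] using f1, by simpa [w0, b0'] using f0, w0⟩
  · rw [B_smul_left, B_smul_right, k12]
    simp only [map_add, LinearMap.add_apply, B_smul_left, B_smul_right, b0, b1, hy0, hy1,
      B_swap_zero hy0, B_swap_zero hy1, u_sing_iff.1 hy] at b2
    rw [u_swap x0 x1] at *
    simp only [map_mul, frobq_frobq] at fb fc ⊢
    refine mul_left_cancel₀ (mul_ne_zero a0 (mul_ne_zero tt h01)) ?_
    linear_combination (-(c * s * frobq hF t * P.B x0 x1)) * fb +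
      b * frobq hF s * frobq hF (P.B x0 x1) * fc + b * c * frobq hF a * frobq hF (P.B x0 x1) * b2 -
      b * c * frobq hF a * frobq hF (P.B x0 x1) * frobq hF s * t * frobq hF (P.B x0 x1) * h2

end Cfsg.Agent.UR
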